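import Mathlib

/-!
# Subspaces over an extension field (helper338, for helper31, box D4p of S3510)
-/

set_option autoImplicit false

namespace Cfsg.Agent.H338.RC

open QuadraticMap Module

/-- the trace form detects zero on squares -/
theorem eq_zero_of_trace_sq {F K : Type} [Field F] [Finite F] [Field K] [Finite K] [Algebra F K] (b : K)
    (h : ∀ a : K, Algebra.trace F K (a * a * b) = 0) : b = 0 := by
  have hfin : Module.Finite F K := Module.Finite.of_finite
  have hall : ∀ c : K, Algebra.trace F K (c * b) = 0 := by
    intro c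
    by_cases h2 : (2 : K) = 0
    · have h5 : Function.Injective (fun a : K => a * a) := by
        intro x y hxy
        have hxy' : x * x = y * y := hxy
        have h6 : (x - y) * (x - y) = 0 := by
          linear_combination hxy' - x * y * h2 + y * y * h2
        exact sub_eq_zero.1 (mul_self_eq_zero.1 h6)
      obtain ⟨a, ha⟩ := Finite.injective_iff_surjective.1 h5 c
      have ha' : a * a = c := ha
      rw [← ha', h]
    · have h6 : c * b = ((c + 1) / 2) * ((c + 1) / 2) * b - ((c - 1) / 2) * ((c - 1) / 2) * b := by
        field_simp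
        ring
      rw [h6, map_sub, h, h, sub_zero]
  by_contra hb
  have h1 : Algebra.trace F K = 0 := by
    refine LinearMap.ext fun c => ?_
    have h2 := hall (c * b⁻¹)
    rw [mul_assoc, inv_mul_cancel₀ hb, mul_one] at h2
    rw [h2]
    rfl
  exact Algebra.trace_ne_zero F K h1

theorem exists_Ksub {F K V : Type} [Field F] [Finite F] [Field K] [Fintype K] [Algebra F K] [AddCommGroup V]
    [Module F V] [Module K V] [IsScalarTower F K V] {Q : QuadraticForm F V} {QL : QuadraticForm K V}
    (hQL : ∀ v, Algebra.trace F K (QL v) = Q v) (h2 : Module.finrank F K = 2) (U : Submodule F V)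
    (hU : ∀ v ∈ U, Q v = 0) (hUK : ∀ (a : K), ∀ v ∈ U, a • v ∈ U) (hU4 : Module.finrank F U = 4) :
    ∃ W : Submodule K V, (∀ v, v ∈ W ↔ v ∈ U) ∧ (∀ v ∈ W, QL v = 0) ∧ Module.finrank K W = 2 := by
  let W : Submodule K V :=
    { carrier := U
      add_mem' := fun ha hb => U.add_mem ha hb
      zero_mem' := U.zero_mem
      smul_mem' := fun a v hv => hUK a v hv }
  refine ⟨W, fun v => Iff.rfl, ?_, ?_⟩
  · intro v hv
    apply eq_zero_of_trace_sq (F := F)
    intro a
    have h3 := hQL (a • v)
    rw [QuadraticMap.map_smul, hU _ (hUK a v hv), smul_eq_mul] at h3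
    exact h3
  · have h3 := Module.finrank_mul_finrank F K W
    have h4 : Module.finrank F W = Module.finrank F U := by
      let e : W ≃ₗ[F] U :=
        { toFun := fun w => ⟨w.1, w.2⟩
          invFun := fun w => ⟨w.1, w.2⟩
          map_add' := fun _ _ => rfl
          map_smul' := fun _ _ => rfl
          left_inv := fun _ => rfl
          right_inv := fun _ => rfl }
      exact e.finrank_eq
    rw [h4, hU4, h2] at h3
    omega

theorem scal_of_pow {F K : Type} [Field F] [Finite F] [Field K] [Fintype K] [Algebra F K] {p : ℕ} [CharP F p]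
    (hp : p.Prime) (k : K) (c : F) (h : k ^ p = algebraMap F K c) : ∃ d : F, k = algebraMap F K d := by
  have : Fact p.Prime := ⟨hp⟩
  have : CharP K p := charP_of_injective_algebraMap (algebraMap F K).injective p
  obtain ⟨d, hd⟩ : ∃ d : F, d ^ p = c := by
    have h1 : Function.Surjective (frobenius F p) := Finite.injective_iff_surjective.1 (frobenius_inj F p)
    exact h1 c
  refine ⟨d, frobenius_inj K p ?_⟩
  change k ^ p = (algebraMap F K d) ^ p
  rw [h, ← map_pow, hd]

end Cfsg.Agent.H338.RC
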