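import Cfsg.Agent.H338.RC.BoxC
import Cfsg.Agent.H297.RC.LR

/-!
# S3510, row F, box C (helper338): the statement of the stub file, without hypotheses
-/

set_option autoImplicit false
open Cfsg

namespace Cfsg.Agent.H338.RC

open QuadraticMap Module MulAction
open Cfsg.Agent.LieClassical.OrthCore Cfsg.Agent.LieClassical.OrthTrans
open Cfsg.Agent.ClassicalGeometry.OrthSemi Cfsg.Agent.ClassicalGeometry.OrthAut1
open Cfsg.Agent.H106.RC Cfsg.Agent.H93.RC

/-- **box C** -/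
theorem box_CF {F V : Type} [Field F] [Finite F] [AddCommGroup V] [Module F V] [FiniteDimensional F V]
    {Q : QuadraticForm F V} {G Ω : Type} [Group G] [Finite G] [MulAction G Ω] [Nonempty Ω]
    {N : Subgroup G} {ρ : ↥(E Q) →* G} (hG : Good Q) (hE : Env G Ω N) (hρ : Rep Q N ρ) (hIH : IH (Nat.card (P Q)))
    {p : ℕ} [CharP F p] {ι : Type} [Finite ι] {x : ι → G} {M : ι → Gam Q} {r : ι → ℕ}
    (hl : ∀ i, Lf ρ (x i) (M i)) (hlin : ∀ i, IsLin (M i)) (hx : PF x r) (hcov : Cov Ω x)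
    (h8 : 8 ≤ Module.finrank F V) (κ : V →ₗ[F] V) (s t : F)
    (hκ : ∀ v, κ (κ v) = s • κ v - t • v) (hirr : ∀ a : F, a * a - s * a + t ≠ 0)
    (hQκ : ∀ v, Q (κ v) = t * Q v) (hcom : ∀ i v, (M i).1 (κ v) = κ ((M i).1 v)) : False :=
  box_C_of hG hE hρ hIH (p := p)
    (fun _ _ _ _ _ hl hr hrp hy hy1 hc _ _ hu hw huw hu0 hind hL hcov =>
      H297.RC.box_LR hG hE hρ hl hr hrp hy hy1 hc hu hw huw hu0 hind hL hcov)
    hl hlin hx hcov h8 κ s t hκ hirr hQκ hcom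

end Cfsg.Agent.H338.RC
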