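import Cfsg.Agent.H202.RC.Orbit

/-!
# Covers of an orbit of an abelian group by elements of arbitrary order (helper338, S3510)

`cover_gen` : the `x i` commute, have finite orders, normalise the finite abelian group `U`, at most one of the orders
is not prime to `|U|`, every point of the orbit `U ω` is fixed by some `x i`; then some `x i` fixes all the points of
`U ω`.
-/

set_option autoImplicit false

namespace Cfsg.Agent.H338.RC

open MulAction

theorem cover_gen {G Ω ι : Type*} [Group G] [MulAction G Ω] [Finite ι] {x : ι → G} {N : ι → ℕ} (hN : ∀ i, N i ≠ 0)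
    (hx : ∀ i, x i ^ N i = 1) (hc : ∀ i j, x i * x j = x j * x i) {U : Subgroup G} [Finite U]
    (hU : ∀ i, ∀ u ∈ U, x i * u * (x i)⁻¹ ∈ U) (hab : ∀ u ∈ U, ∀ v ∈ U, u * v = v * u)
    (hcop : ∀ i j, ¬ (N i).Coprime (Nat.card U) → ¬ (N j).Coprime (Nat.card U) → i = j) (ω : Ω)
    (hcov : ∀ u ∈ U, ∃ i, x i • u • ω = u • ω) : ∃ i, ∀ u ∈ U, x i • u • ω = u • ω := by
  classical
  by_contra hcon
  push Not at hcon
  have hpow : ∀ (i : ι) (n : ℕ), ∀ u ∈ U, x i ^ n * u * (x i ^ n)⁻¹ ∈ U := by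
    intro i n
    induction n with
    | zero => intro u hu; simpa using hu
    | succ n ih =>
      intro u hu
      have h2 := hU i _ (ih u hu)
      have h3 : x i * (x i ^ n * u * (x i ^ n)⁻¹) * (x i)⁻¹ = x i ^ (n + 1) * u * (x i ^ (n + 1))⁻¹ := by
        rw [pow_succ']
        group
      rwa [h3] at h2
  have hinv : ∀ (i : ι), ∀ u ∈ U, (x i)⁻¹ * u * x i ∈ U := by
    intro i u hu
    obtain ⟨n, hn⟩ : ∃ n, N i = n + 1 := ⟨N i - 1, by have := hN i; omega⟩
    have h5 : x i ^ n = (x i)⁻¹ := by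
      rw [eq_inv_iff_mul_eq_one, ← pow_succ, ← hn]
      exact hx i
    have h6 := hpow i n u hu
    rwa [h5, inv_inv] at h6
  -- the `x i` with a fixed point in the orbit
  let I := {i : ι // ∃ u ∈ U, x i • u • ω = u • ω}
  have hpres : ∀ (i : I) (y : Ω), y ∈ orbit U ω ↔ x i.1 • y ∈ orbit U ω := by
    rintro ⟨i, u, hu, hi⟩ y
    constructor
    · rintro ⟨v, rfl⟩
      refine ⟨⟨x i * (v * u⁻¹) * (x i)⁻¹ * u, U.mul_mem (hU i _ (U.mul_mem v.2 (U.inv_mem hu))) hu⟩, ?_⟩
      change (x i * (v * u⁻¹) * (x i)⁻¹ * u) • ω = x i • (v : G) • ω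
      have h1 : (x i)⁻¹ • u • ω = u • ω := by rw [inv_smul_eq_iff, hi]
      rw [mul_smul, mul_smul, h1, mul_smul, mul_smul, inv_smul_smul]
    · rintro ⟨v, hv⟩
      change (v : G) • ω = x i • y at hv
      have h1 : (x i)⁻¹ * (v * u⁻¹) * x i ∈ U := hinv i _ (U.mul_mem v.2 (U.inv_mem hu))
      refine ⟨⟨(x i)⁻¹ * (v * u⁻¹) * x i * u, U.mul_mem h1 hu⟩, ?_⟩
      change ((x i)⁻¹ * (v * u⁻¹) * x i * u) • ω = y
      rw [mul_smul, mul_smul, hi, mul_smul, mul_smul, inv_smul_smul, hv, inv_smul_smul]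
  let y : I → Equiv.Perm (orbit U ω) := fun i =>
    { toFun := fun d => ⟨x i.1 • (d : Ω), (hpres i d).1 d.2⟩
      invFun := fun d => ⟨(x i.1)⁻¹ • (d : Ω), (hpres i _).2 (by rw [smul_inv_smul]; exact d.2)⟩
      left_inv := fun d => Subtype.ext (inv_smul_smul _ _)
      right_inv := fun d => Subtype.ext (smul_inv_smul _ _) }
  have hy : ∀ (i : I) (d : orbit U ω), ((y i d : _) : Ω) = x i.1 • (d : Ω) := fun i d => rfl
  have hypow : ∀ (i : I) (m : ℕ) (d : orbit U ω), (((y i ^ m) d : _) : Ω) = x i.1 ^ m • (d : Ω) := by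
    intro i m
    induction m with
    | zero => intro d; simp
    | succ m ih => intro d; rw [pow_succ, Equiv.Perm.mul_apply, ih, hy, pow_succ, mul_smul]
  have hyN : ∀ i : I, y i ^ N i.1 = 1 := by
    intro i
    ext d
    rw [hypow, hx, one_smul]
    rfl
  have hy1 : ∀ i : I, y i ≠ 1 := by
    intro i h0
    obtain ⟨u, hu, h1⟩ := hcon i.1
    apply h1
    have h2 := hy i ⟨u • ω, ⟨⟨u, hu⟩, rfl⟩⟩
    rw [h0] at h2
    exact h2.symm
  -- powers of prime order
  have hz : ∀ i : I, ∃ (r m : ℕ), r.Prime ∧ r ∣ N i.1 ∧ (y i ^ m) ^ r = 1 ∧ y i ^ m ≠ 1 := by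
    intro i
    have ho : orderOf (y i) ≠ 1 := fun h => hy1 i (orderOf_eq_one_iff.1 h)
    obtain ⟨r, hr, hrd⟩ := Nat.exists_prime_and_dvd ho
    have hod : orderOf (y i) ∣ N i.1 := orderOf_dvd_of_pow_eq_one (hyN i)
    have hopos : 0 < orderOf (y i) := Nat.pos_of_dvd_of_pos hod (Nat.pos_of_ne_zero (hN i.1))
    refine ⟨r, orderOf (y i) / r, hr, hrd.trans hod, ?_, ?_⟩
    · rw [← pow_mul, Nat.div_mul_cancel hrd, pow_orderOf_eq_one]
    · intro h0
      have h1 := orderOf_dvd_of_pow_eq_one h0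
      have h2 := Nat.le_of_dvd (Nat.div_pos (Nat.le_of_dvd hopos hrd) hr.pos) h1
      exact absurd h2 (not_le_of_gt (Nat.div_lt_self hopos hr.one_lt))
  choose r m hr hrN hyr hyne using hz
  let π : U →* Equiv.Perm (orbit U ω) := MulAction.toPermHom U (orbit U ω)
  have hπ : ∀ (u : U) (d : orbit U ω), ((π u d : _) : Ω) = (u : G) • (d : Ω) := fun u d => rfl
  have hconj : ∀ (i : I) (n : ℕ) (u : U), y i ^ n * π u * (y i ^ n)⁻¹ =
      π ⟨x i.1 ^ n * u * (x i.1 ^ n)⁻¹, hpow i.1 n u u.2⟩ := by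
    intro i n u
    rw [mul_inv_eq_iff_eq_mul]
    ext d
    rw [Equiv.Perm.mul_apply, Equiv.Perm.mul_apply, hypow, hπ, hπ, hypow, ← mul_smul, ← mul_smul]
    change _ = ((x i.1 ^ n * u * (x i.1 ^ n)⁻¹) * x i.1 ^ n) • (d : Ω)
    congr 1
    group
  have hfin : Finite π.range := Set.finite_range π
  have hcard : Nat.card π.range ∣ Nat.card U := by
    have h1 := Subgroup.card_mul_index π.ker
    rw [Subgroup.index_ker] at h1
    exact Dvd.intro_left _ h1
  obtain ⟨i, hi⟩ := Cfsg.Agent.H202.RC.cover (G := Equiv.Perm (orbit U ω)) (Ω := orbit U ω) (x := fun i : I => y i ^ m i)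
    (r := r) hr hyr (fun i j => by
      have h1 : Commute (y i) (y j) := by
        ext d
        rw [Equiv.Perm.mul_apply, Equiv.Perm.mul_apply, hy, hy, hy, hy, ← mul_smul, ← mul_smul, hc]
      exact h1.pow_pow _ _) (fun d => by
      obtain ⟨v, hv⟩ := d.2
      obtain ⟨i, hi⟩ := hcov v v.2
      have hv' : (v : G) • ω = (d : Ω) := hv
      rw [hv'] at hi
      refine ⟨⟨i, v, v.2, by rw [hv']; exact hi⟩, ?_⟩
      have h2 : ∀ k : ℕ, x i ^ k • (d : Ω) = d := by
        intro k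
        induction k with
        | zero => simp
        | succ k ih => rw [pow_succ, mul_smul, hi, ih]
      apply Subtype.ext
      change (((y _ ^ m _) d : _) : Ω) = d
      rw [hypow]
      exact h2 _) (U := π.range) (fun i u' hu' => by
      obtain ⟨u, rfl⟩ := hu'
      rw [hconj]
      exact ⟨_, rfl⟩) (Or.inl ⟨by
      rintro _ ⟨u, rfl⟩ _ ⟨v, rfl⟩
      rw [← map_mul, ← map_mul]
      congr 1
      exact Subtype.ext (hab u u.2 v v.2), fun i j h1 h2 => by
        apply Subtype.ext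
        refine hcop i.1 j.1 (fun h => h1 ?_) (fun h => h2 ?_)
        · exact (Nat.Coprime.coprime_dvd_left (hrN i) h).coprime_dvd_right hcard
        · exact (Nat.Coprime.coprime_dvd_left (hrN j) h).coprime_dvd_right hcard⟩) ⟨ω, mem_orbit_self ω⟩
  apply hyne i
  ext d
  obtain ⟨v, hv⟩ := d.2
  have h1 := hi (π v) ⟨v, rfl⟩
  have h2 : (π v) • (⟨ω, mem_orbit_self ω⟩ : orbit U ω) = d := Subtype.ext hv
  rw [h2] at h1
  exact congrArg Subtype.val h1

end Cfsg.Agent.H338.RC
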