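import Mathlib

/-!
# Extension fields: generation of the transvections (helper338, S3510, row A3)

`V` is a vector space over `K ≥ F`.

* `gen` : a subgroup of `GL_F(V)` containing the transvections `t_{w,f}` with `f (K w) = 0` contains all transvections,
  if `dim_K V ≥ 2`.
-/

set_option autoImplicit false

namespace Cfsg.Agent.H338.RC

open Module

variable {F K V : Type*} [Field F] [Field K] [Algebra F K] [AddCommGroup V] [Module F V] [Module K V]
  [IsScalarTower F K V]

/-- the `F`-linear map `v ↦ (a ↦ f (a v))` -/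
def ext1 (K : Type*) [Field K] [Algebra F K] [Module K V] [IsScalarTower F K V] (f : Dual F V) : V →ₗ[F] (K →ₗ[F] F) where
  toFun v :=
    { toFun := fun a => f (a • v)
      map_add' := fun a b => by rw [add_smul, map_add]
      map_smul' := fun c a => by rw [smul_assoc, map_smul, RingHom.id_apply] }
  map_add' v w := by
    ext a
    change f (a • (v + w)) = f (a • v) + f (a • w)
    rw [smul_add, map_add]
  map_smul' c v := by
    ext a
    change f (a • c • v) = c • f (a • v)
    rw [smul_algebra_smul_comm, map_smul]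

theorem ext1_apply (f : Dual F V) (v : V) (a : K) : ext1 K f v a = f (a • v) := rfl

/-- a hyperplane contains a nonzero `K`-subspace -/
theorem exists_line [FiniteDimensional F K] [FiniteDimensional F V] [FiniteDimensional K V] (h2 : 2 ≤ finrank K V)
    (f : Dual F V) : ∃ u : V, u ≠ 0 ∧ ∀ a : K, f (a • u) = 0 := by
  have h1 : finrank F (K →ₗ[F] F) < finrank F V := by
    rw [Module.finrank_linearMap, finrank_self, mul_one, ← Module.finrank_mul_finrank F K V]
    have h0 : 0 < finrank F K := Module.finrank_pos
    nlinarith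
  have h3 := LinearMap.ker_ne_bot_of_finrank_lt (f := ext1 K f) h1
  obtain ⟨u, hu, hu0⟩ := Submodule.exists_mem_ne_zero_of_ne_bot h3
  refine ⟨u, hu0, fun a => ?_⟩
  have h4 : ext1 K f u = 0 := hu
  rw [← ext1_apply, h4]
  rfl

theorem gen [FiniteDimensional F K] [FiniteDimensional F V] [FiniteDimensional K V] (h2 : 2 ≤ finrank K V)
    {S : Subgroup (V ≃ₗ[F] V)}
    (hS : ∀ (w : V) (f : Dual F V) (h : f w = 0), (∀ a : K, f (a • w) = 0) → LinearEquiv.transvection h ∈ S)
    (w : V) (f : Dual F V) (h : f w = 0) : LinearEquiv.transvection h ∈ S := by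
  by_cases hf : ∀ a : K, f (a • w) = 0
  · exact hS w f h hf
  obtain ⟨u, hu0, hu⟩ := exists_line (K := K) h2 f
  have huw : u ∉ (Submodule.span K {w}).restrictScalars F := by
    intro h0
    rw [Submodule.restrictScalars_mem, Submodule.mem_span_singleton] at h0
    obtain ⟨c, rfl⟩ := h0
    apply hf
    intro a
    have hc : c ≠ 0 := by
      rintro rfl
      exact hu0 (zero_smul _ _)
    have h1 := hu (a * c⁻¹)
    rwa [smul_smul, mul_assoc, inv_mul_cancel₀ hc, mul_one] at h1
  obtain ⟨g, hg1, hg2⟩ := Submodule.exists_le_ker_of_notMem huw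
  set c := g u with hc
  have hgw : ∀ a : K, g (a • w) = 0 := fun a => hg2 (by
    change a • w ∈ Submodule.span K {w}
    exact Submodule.smul_mem _ _ (Submodule.mem_span_singleton_self w))
  -- `t_{c⁻¹ w, g}`
  have hgw' : g (c⁻¹ • w) = 0 := by
    rw [map_smul, show g w = 0 by simpa using hgw 1, smul_zero]
  have h3 : LinearEquiv.transvection hgw' ∈ S := hS _ _ _ (fun a => by
    rw [smul_algebra_smul_comm, map_smul, hgw, smul_zero])
  have hfu : f u = 0 := by simpa using hu 1
  have h4 : LinearEquiv.transvection hfu ∈ S := hS _ _ _ hu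
  have h5 : LinearEquiv.transvection h =
      LinearEquiv.transvection hgw' * LinearEquiv.transvection hfu * (LinearEquiv.transvection hgw')⁻¹ *
        (LinearEquiv.transvection hfu)⁻¹ := by
    rw [eq_mul_inv_iff_mul_eq, eq_mul_inv_iff_mul_eq]
    ext x
    have hfw : f w = 0 := h
    simp only [LinearEquiv.mul_apply, LinearEquiv.transvection.apply, map_add, map_smul, hfw, hfu, smul_add]
    simp only [← hc, mul_zero, smul_smul]
    have hc0 : c ≠ 0 := hg1
    rw [mul_inv_cancel₀ hc0, mul_one]
    simp only [zero_smul]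
    abel
  rw [h5]
  exact mul_mem (mul_mem (mul_mem h3 h4) (inv_mem h3)) (inv_mem h4)

end Cfsg.Agent.H338.RC
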