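import Cfsg.Agent.H202.RC.Frame
import Cfsg.Agent.H106.RC.MRule
import Cfsg.Agent.H338.RC.Cover2
import Cfsg.Agent.H338.RC.ExtGen
import Cfsg.Agent.H982.TWModel

/-!
# Extension fields: the M-rule for `SL_L(V) ≤ SL_F(V)` (helper338, S3510, row A, box B)
-/

set_option autoImplicit false
open Cfsg

namespace Cfsg.Agent.H338.RC

open MulAction Cfsg.Agent.H106.RC Cfsg.Agent.H202.RC Module
open scoped commutatorElement

section res

variable {F L V : Type*} [Field F] [Field L] [Algebra F L] [AddCommGroup V] [Module F V] [Module L V]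
  [IsScalarTower F L V]

/-- restriction of scalars `SL_L(V) → SL_F(V)` -/
noncomputable def res (F : Type*) {L V : Type*} [Field F] [Field L] [Algebra F L] [AddCommGroup V] [Module F V]
    [Module L V] [IsScalarTower F L V] : SLV L V →* SLV F V where
  toFun s := ⟨(s : V ≃ₗ[L] V).restrictScalars F, by
    rw [mem_SLV]
    have h1 : LinearMap.det (((s : V ≃ₗ[L] V).restrictScalars F : V ≃ₗ[F] V) : V →ₗ[F] V) =
        Algebra.norm F (LinearMap.det ((s : V ≃ₗ[L] V) : V →ₗ[L] V)) := LinearMap.det_restrictScalars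
    rw [h1, mem_SLV.1 s.2, map_one]⟩
  map_one' := rfl
  map_mul' _ _ := rfl

@[simp] theorem res_apply (s : SLV L V) (v : V) :
    ((res F s : SLV F V) : V ≃ₗ[F] V) v = (s : V ≃ₗ[L] V) v := rfl

/-- an `F`-linear automorphism commuting with `L` as an `L`-linear automorphism -/
def toL (a : V ≃ₗ[F] V) (ha : ∀ (c : L) (v : V), a (c • v) = c • a v) : V ≃ₗ[L] V :=
  { a.toAddEquiv with map_smul' := ha }

omit [Algebra F L] [IsScalarTower F L V] in
@[simp] theorem toL_apply (a : V ≃ₗ[F] V) (ha : ∀ (c : L) (v : V), a (c • v) = c • a v) (v : V) :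
    toL a ha v = a v := rfl

theorem cj_res (a : V ≃ₗ[F] V) (ha : ∀ (c : L) (v : V), a (c • v) = c • a v) (s : SLV L V) :
    cj a (res F s) = res F (cj (toL a ha) s) := by
  apply cj_eq
  intro v
  rw [res_apply, res_apply, ← toL_apply a ha, cj_apply, toL_apply]

/-- an element of finite order conjugating `M` into `M` normalises `M` -/
theorem mem_norm_pow {G : Type*} [Group G] {M : Subgroup G} {x : G} {k : ℕ} (hk : 0 < k) (hx : x ^ k = 1)
    (h : ∀ m ∈ M, x * m * x⁻¹ ∈ M) : x ∈ Subgroup.normalizer (M : Set G) := by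
  have h1 : ∀ (j : ℕ), ∀ m ∈ M, x ^ j * m * (x ^ j)⁻¹ ∈ M := by
    intro j
    induction j with
    | zero => intro m hm; simpa using hm
    | succ j ih =>
      intro m hm
      have h2 := h _ (ih m hm)
      have h3 : x * (x ^ j * m * (x ^ j)⁻¹) * x⁻¹ = x ^ (j + 1) * m * (x ^ (j + 1))⁻¹ := by
        rw [pow_succ']
        group
      rwa [h3] at h2
  rw [Subgroup.mem_normalizer_iff]
  intro m
  refine ⟨fun hm => h m hm, fun hm => ?_⟩
  have h2 := h1 (k - 1) _ hm
  have h3 : x ^ (k - 1) = x⁻¹ := by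
    rw [eq_inv_iff_mul_eq_one, ← pow_succ, Nat.sub_add_cancel hk]
    exact hx
  rw [h3] at h2
  have h4 : x⁻¹ * (x * m * x⁻¹) * x⁻¹⁻¹ = m := by group
  rwa [h4] at h2

/-- a perfect group has no commutative simple quotient -/
theorem not_comm_of_perf {M S : Type*} [Group M] [Group S] (hM : commutator M = ⊤) (f : M →* S)
    (hf : Function.Surjective f) (hS : IsSimpleGroup S) : ¬ IsMulCommutative S := by
  intro hc
  have h1 : ∀ m : M, f m = 1 := by
    intro m
    have h2 : commutator M ≤ f.ker := by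
      rw [commutator_def, Subgroup.commutator_le]
      intro a _ b _
      rw [MonoidHom.mem_ker, map_commutatorElement, commutatorElement_eq_one_iff_mul_comm]
      exact hc.is_comm.comm _ _
    rw [hM] at h2
    exact h2 (Subgroup.mem_top m)
  obtain ⟨s, hs⟩ := exists_ne (1 : S)
  obtain ⟨m, rfl⟩ := hf s
  exact hs (h1 m)

end res

section mrule

variable {F L V : Type} [Field F] [Field L] [Algebra F L] [AddCommGroup V] [Module F V] [Module L V]
  [IsScalarTower F L V] {G Ω : Type} [Group G] [MulAction G Ω] {N : Subgroup G} {κ : SLV F V →* G}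

/-- the image of `SL_L(V)` -/
noncomputable def ML (L : Type) {F V G : Type} [Field F] [Field L] [Algebra F L] [AddCommGroup V] [Module F V] [Module L V]
    [IsScalarTower F L V] [Group G] (κ : SLV F V →* G) : Subgroup G :=
  (κ.comp (res F (L := L) (V := V))).range

theorem mem_ML {m : G} : m ∈ ML L κ ↔ ∃ s : SLV L V, κ (res F s) = m := Iff.rfl

variable {ι : Type} {x : ι → G} {r : ι → ℕ} {a : ι → V ≃ₗ[F] V}

/-- equality of images -/
theorem eq_iff_smul (h : Frame Ω N κ) {s t : SLV F V} :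
    κ s = κ t ↔ ∃ c : F, ∀ v : V, (s : V ≃ₗ[F] V) v = c • (t : V ≃ₗ[F] V) v := by
  rw [← mul_inv_eq_one, ← map_inv, ← map_mul, h.ker]
  constructor
  · rintro ⟨c, hc⟩
    refine ⟨c, fun v => ?_⟩
    have := hc ((t : V ≃ₗ[F] V) v)
    rwa [coe_mul_apply, coe_inv_apply] at this
  · rintro ⟨c, hc⟩
    refine ⟨c, fun v => ?_⟩
    have := hc (((t⁻¹ : SLV F V) : V ≃ₗ[F] V) v)
    rwa [coe_apply_inv] at this

/-- `x j` centralises `M` iff `a j` is an `L`-scalar -/
theorem cent_of_scalar (h : LinCov Ω N κ x r a) {i : ι} {c : L} (hc : ∀ v, a i v = c • v) :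
    ∀ m ∈ ML L κ, x i * m = m * x i := by
  rintro _ ⟨s, rfl⟩
  change x i * κ (res F s) = κ (res F s) * x i
  have h1 := h.lift i (res F s)
  have h2 : cj (a i) (res F s) = res F s := by
    apply cj_eq
    intro v
    rw [hc, hc, res_apply, res_apply, map_smul]
  rw [h2, mul_inv_eq_iff_eq_mul] at h1
  exact h1

theorem scalar_of_comm (fr : Frame Ω N κ) (hm : 2 ≤ finrank L V) {y : G} {f : V ≃ₗ[F] V}
    (hy : ∀ s : SLV F V, y * κ s * y⁻¹ = κ (cj f s))
    (hlin : ∀ (c : L) (v : V), f (c • v) = c • f v) (hc : ∀ m ∈ ML L κ, y * m = m * y) :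
    ∃ c : L, ∀ v, f v = c • v := by
  have hfin : Module.Finite L V := Module.finite_of_finrank_pos (by omega)
  have key : ∀ v : V, ∃ c : L, f v = c • v := by
    intro v
    by_cases hv : v = 0
    · exact ⟨1, by rw [hv, map_zero, smul_zero]⟩
    -- a functional vanishing at `v`
    obtain ⟨φ, hφ, hφv⟩ : ∃ φ : Dual L V, φ ≠ 0 ∧ φ v = 0 := by
      have h1 : Submodule.span L {v} ≠ ⊤ := by
        intro h2
        have h3 := finrank_span_singleton (K := L) hv
        rw [h2, finrank_top] at h3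
        omega
      obtain ⟨u, hu⟩ : ∃ u, u ∉ Submodule.span L {v} := by
        by_contra hcon
        push Not at hcon
        exact h1 (eq_top_iff.2 fun u _ => hcon u)
      obtain ⟨g, hg1, hg2⟩ := Submodule.exists_le_ker_of_notMem hu
      refine ⟨g, ?_, hg2 (Submodule.mem_span_singleton_self v)⟩
      rintro rfl
      exact hg1 rfl
    obtain ⟨u, hu⟩ : ∃ u, φ u ≠ 0 := by
      by_contra hcon
      push Not at hcon
      exact hφ (LinearMap.ext hcon)
    have h1 := hc _ ⟨tv φ v hφv, rfl⟩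
    change y * κ (res F (tv φ v hφv)) = κ (res F (tv φ v hφv)) * y at h1
    have h2 := hy (res F (tv φ v hφv))
    rw [h1, mul_inv_cancel_right, eq_iff_smul fr] at h2
    obtain ⟨c, hc⟩ := h2
    -- `c = 1`
    have h3 : ∀ w, (tv φ v hφv : V ≃ₗ[L] V) (f w) = c • f ((tv φ v hφv : V ≃ₗ[L] V) w) := by
      intro w
      have := hc (f w)
      rwa [cj_apply, res_apply, res_apply] at this
    have hav : f v ≠ 0 := by
      intro h0
      exact hv (f.map_eq_zero_iff.1 h0)
    have h4 : c = 1 := by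
      have h5 := h3 v
      rw [tv_apply, tv_apply, hφv, zero_smul, add_zero] at h5
      -- `a v + φ (a v) v = c a v`; apply φ
      have h6 := congrArg φ h5
      rw [map_add, map_smul, hφv, smul_zero, add_zero, ← algebraMap_smul L c, map_smul] at h6
      by_cases h7 : φ (f v) = 0
      · rw [h7, zero_smul, add_zero, ← sub_eq_zero] at h5
        have h8 : ((1 : F) - c) • f v = 0 := by rw [sub_smul, one_smul, h5]
        rcases smul_eq_zero.1 h8 with h9 | h9
        · exact (sub_eq_zero.1 h9).symm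
        · exact (hav h9).elim
      · have h8 : (algebraMap F L c) = 1 := by
          have : (algebraMap F L c) * φ (f v) = 1 * φ (f v) := by
            rw [one_mul]
            exact h6.symm
          exact mul_right_cancel₀ h7 this
        exact (algebraMap F L).injective (by rw [h8, map_one])
    subst h4
    have h5 := h3 u
    rw [one_smul, tv_apply, tv_apply, map_add, hlin, add_right_inj] at h5
    refine ⟨(φ u)⁻¹ * φ (f u), ?_⟩
    rw [mul_smul, h5, inv_smul_smul₀ hu]
  obtain ⟨c, hc⟩ := LinearMap.exists_eq_smul_id_of_forall_notLinearIndependent (R := L) (V := V)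
    (f := (toL f hlin : V →ₗ[L] V)) (by
      intro v hv
      obtain ⟨c, hc⟩ := key v
      rw [LinearIndependent.pair_iff] at hv
      have := hv c (-1) (by
        change c • v + (-1 : L) • f v = 0
        rw [hc, neg_smul, one_smul, add_neg_cancel])
      exact neg_ne_zero.2 one_ne_zero this.2)
  refine ⟨c, fun v => ?_⟩
  have := congrArg (fun f : V →ₗ[L] V => f v) hc
  exact this

theorem scalar_of_cent (h : LinCov Ω N κ x r a) (hm : 2 ≤ finrank L V) {i : ι}
    (hlin : ∀ (c : L) (v : V), a i (c • v) = c • a i v) (hc : ∀ m ∈ ML L κ, x i * m = m * x i) :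
    ∃ c : L, ∀ v, a i v = c • v :=
  scalar_of_comm h.fr hm (h.lift i) hlin hc

/-- a power of a lift is a scalar -/
theorem pow_scalar (h : LinCov Ω N κ x r a) (hn : 2 ≤ finrank F V) (i : ι) :
    ∃ c : F, ∀ v, (a i ^ r i) v = c • v := by
  have h1 : ∀ (k : ℕ) (s : SLV F V), x i ^ k * κ s * (x i ^ k)⁻¹ = κ (cj (a i ^ k) s) := by
    intro k
    induction k with
    | zero => intro s; simp
    | succ k ih =>
      intro s
      rw [pow_succ' (a i), cj_mul, ← h.lift, ← ih, pow_succ' (x i)]
      group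
  refine scalar_of_comm (L := F) h.fr hn (y := 1) (f := a i ^ r i) ?_ (fun c v => map_smul _ c v) fun m _ => by simp
  intro s
  rw [← h1, h.pf.pow]

/-- structure of the image of `SL_L(V)` -/
theorem exists_pi [Finite L] (fr : Frame Ω N κ) (hm : 2 ≤ finrank L V) (h4 : 4 ≤ Nat.card L) :
    IsSimpleGroup (Matrix.ProjectiveSpecialLinearGroup (Fin (finrank L V)) L) ∧
      ¬ IsMulCommutative (Matrix.ProjectiveSpecialLinearGroup (Fin (finrank L V)) L) ∧
      ⁅ML L κ, ML L κ⁆ = ML L κ ∧
      ∃ π : ML L κ →* Matrix.ProjectiveSpecialLinearGroup (Fin (finrank L V)) L,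
        Function.Surjective π ∧ π.ker ≤ Subgroup.center (ML L κ) := by
  classical
  have : Fintype L := Fintype.ofFinite L
  rw [Nat.card_eq_fintype_card] at h4
  have hfin : Module.Finite L V := Module.finite_of_finrank_pos (by omega)
  set m := finrank L V with hmdef
  let b : Basis (Fin m) L V := Module.finBasis L V
  let μ : Matrix.SpecialLinearGroup (Fin m) L →* G := (κ.comp (res F)).comp (slE b).toMonoidHom
  have hμ : μ.range = ML L κ := by
    change ((κ.comp (res F)).comp (slE b).toMonoidHom).range = _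
    rw [MonoidHom.range_comp, MonoidHom.range_eq_top.2 (slE b).surjective, ← MonoidHom.range_eq_map]
    rfl
  have hperf : commutator (Matrix.SpecialLinearGroup (Fin m) L) = ⊤ := H982.TWModel.perfect_sl hm fun _ => h4
  have : Nontrivial (Fin m) := Fin.nontrivial_iff_two_le.2 hm
  have hS : IsSimpleGroup (Matrix.ProjectiveSpecialLinearGroup (Fin m) L) :=
    LieClassical.SLGen.psl_isSimpleGroup_of_perfect hperf
  have hSn : ¬ IsMulCommutative (Matrix.ProjectiveSpecialLinearGroup (Fin m) L) :=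
    not_comm_of_perf hperf (QuotientGroup.mk' _) (QuotientGroup.mk'_surjective _) hS
  have hker : μ.ker ≤ Subgroup.center (Matrix.SpecialLinearGroup (Fin m) L) := by
    intro s hs
    rw [MonoidHom.mem_ker] at hs
    obtain ⟨c, hc⟩ := (fr.ker _).1 hs
    rw [Subgroup.mem_center_iff]
    intro t
    apply (slE b).injective
    rw [map_mul, map_mul]
    apply SLV.ext
    intro v
    have h1 : ∀ v, (slE b s : V ≃ₗ[L] V) v = c • v := hc
    rw [coe_mul_apply, coe_mul_apply, h1, h1, ← algebraMap_smul L c, map_smul, algebraMap_smul]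
  have hMperf : ⁅μ.range, μ.range⁆ = μ.range := by
    rw [MonoidHom.range_eq_map, ← Subgroup.map_commutator, ← commutator_def, hperf]
  let e1 : Matrix.SpecialLinearGroup (Fin m) L ⧸ μ.ker ≃* μ.range := QuotientGroup.quotientKerEquivRange μ
  let q : Matrix.SpecialLinearGroup (Fin m) L ⧸ μ.ker →* Matrix.ProjectiveSpecialLinearGroup (Fin m) L :=
    QuotientGroup.map μ.ker (Subgroup.center _) (MonoidHom.id _) hker
  have hqs : Function.Surjective q := by
    intro y
    obtain ⟨s, rfl⟩ := QuotientGroup.mk_surjective y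
    exact ⟨QuotientGroup.mk s, rfl⟩
  let π : μ.range →* Matrix.ProjectiveSpecialLinearGroup (Fin m) L := q.comp e1.symm.toMonoidHom
  have hπ : Function.Surjective π := hqs.comp e1.symm.surjective
  have hπk : π.ker ≤ Subgroup.center μ.range := by
    intro y hy
    obtain ⟨s', hs'⟩ := e1.surjective y
    obtain ⟨s, rfl⟩ := QuotientGroup.mk_surjective s'
    have h1 : q (QuotientGroup.mk s) = 1 := by
      have h2 : q (e1.symm y) = 1 := hy
      rwa [← hs', MulEquiv.symm_apply_apply] at h2
    have h2 : s ∈ Subgroup.center (Matrix.SpecialLinearGroup (Fin m) L) := by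
      have h3 : (QuotientGroup.mk s : Matrix.SpecialLinearGroup (Fin m) L ⧸
        Subgroup.center (Matrix.SpecialLinearGroup (Fin m) L)) = 1 := h1
      exact (QuotientGroup.eq_one_iff s).1 h3
    rw [Subgroup.mem_center_iff] at h2 ⊢
    rintro ⟨_, ⟨t, rfl⟩⟩
    have h4 : (y : G) = μ s := by rw [← hs']; rfl
    apply Subtype.ext
    change μ t * (y : G) = (y : G) * μ t
    rw [h4, ← map_mul, ← map_mul, h2 t]
  rw [← hμ]
  exact ⟨hS, hSn, hMperf, π, hπ, hπk⟩

/-- `L` has at least four elements -/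
theorem four_le [Finite L] (hl : 2 ≤ finrank F L) : 4 ≤ Nat.card L := by
  have hFL : Module.Finite F L := Module.finite_of_finrank_pos (by omega)
  have hF : Finite F := Finite.of_injective _ (algebraMap F L).injective
  have h1 := Module.natCard_eq_pow_finrank (K := F) (V := L)
  have h2 : 2 ≤ Nat.card F := Finite.one_lt_card
  calc 4 = 2 ^ 2 := by norm_num
    _ ≤ Nat.card F ^ 2 := Nat.pow_le_pow_left h2 2
    _ ≤ Nat.card F ^ finrank F L := Nat.pow_le_pow_right (by omega) hl
    _ = Nat.card L := h1.symm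

theorem ML_le (fr : Frame Ω N κ) : ML L κ ≤ N := by
  rw [← fr.range]
  rintro _ ⟨s, rfl⟩
  exact ⟨_, rfl⟩

/-- the image of `SL_L(V)` is a proper subgroup -/
theorem ML_ne (fr : Frame Ω N κ) (hl : 2 ≤ finrank F L) (hn : 2 ≤ finrank F V) : ML L κ ≠ N := by
  intro h
  have hfin : Module.Finite F V := Module.finite_of_finrank_pos (by omega)
  -- a transvection
  obtain ⟨v, hv⟩ : ∃ v : V, v ≠ 0 := by
    by_contra hcon
    push Not at hcon
    have : Subsingleton V := ⟨fun a b => by rw [hcon a, hcon b]⟩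
    rw [finrank_zero_of_subsingleton] at hn
    omega
  obtain ⟨u, hu⟩ : ∃ u, u ∉ Submodule.span F {v} := by
    by_contra hcon
    push Not at hcon
    have h2 : Submodule.span F {v} = ⊤ := eq_top_iff.2 fun u _ => hcon u
    have h3 := finrank_span_singleton (K := F) hv
    rw [h2, finrank_top] at h3
    omega
  obtain ⟨φ, hφu, hφ⟩ := Submodule.exists_le_ker_of_notMem hu
  have hφv : φ v = 0 := hφ (Submodule.mem_span_singleton_self v)
  have h1 : κ (tv φ v hφv) ∈ ML L κ := by
    rw [h, ← fr.range]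
    exact ⟨_, rfl⟩
  obtain ⟨t, ht⟩ := h1
  change κ (res F t) = _ at ht
  obtain ⟨c, hc⟩ := (eq_iff_smul fr).1 ht
  have hc' : ∀ w, (t : V ≃ₗ[L] V) w = c • (w + φ w • v) := by
    intro w
    have := hc w
    rwa [tv_apply, res_apply] at this
  have hc0 : c ≠ 0 := by
    rintro rfl
    have h2 := hc' v
    rw [zero_smul] at h2
    exact hv ((t : V ≃ₗ[L] V).map_eq_zero_iff.1 h2)
  have hall : ∀ k : L, ∃ d : F, algebraMap F L d = k := by
    intro k
    have h2 := hc' (k • u)
    rw [map_smul, hc', smul_algebra_smul_comm] at h2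
    have h3 : k • (u + φ u • v) = k • u + φ (k • u) • v := by
      have := congrArg (fun w => c⁻¹ • w) h2
      simpa only [inv_smul_smul₀ hc0] using this
    rw [smul_add, add_right_inj, smul_algebra_smul_comm] at h3
    have h4 : φ u ≠ 0 := hφu
    refine ⟨(φ u)⁻¹ * φ (k • u), ?_⟩
    have h5 : k • v = ((φ u)⁻¹ * φ (k • u)) • v := by
      rw [mul_smul, ← h3, inv_smul_smul₀ h4]
    rw [← algebraMap_smul L ((φ u)⁻¹ * φ (k • u)) v, ← sub_eq_zero, ← sub_smul] at h5
    rcases smul_eq_zero.1 h5 with h6 | h6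
    · exact (sub_eq_zero.1 h6).symm
    · exact (hv h6).elim
  have h5 : finrank F L = 1 := by
    rw [finrank_eq_one_iff_of_nonzero' (1 : L) one_ne_zero]
    intro w
    obtain ⟨d, hd⟩ := hall w
    exact ⟨d, by rw [← Algebra.algebraMap_eq_smul_one, hd]⟩
  omega

variable [Finite L] [Finite ι]

/-- the M-rule for `SL_L(V)` -/
theorem mrule_ext (h : LinCov Ω N κ x r a) (hl : 2 ≤ finrank F L) (hm : 2 ≤ finrank L V)
    (hlin : ∀ (i : ι) (c : L) (v : V), a i (c • v) = c • a i v)
    (hRC : RC (Matrix.ProjectiveSpecialLinearGroup (Fin (finrank L V)) L) ∨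
      ∃ i₀, ∀ i, i ≠ i₀ → ∃ c : L, ∀ v, a i v = c • v) (ω : Ω) :
    ML L κ ≤ stabilizer G ω ∨ ∃ j, (∀ m ∈ ML L κ, x j * m = m * x j) ∧ x j • ω = ω := by
  obtain ⟨hS, hSn, hMperf, π, hπ, hπk⟩ := exists_pi (L := L) h.fr hm (four_le hl)
  have hnorm : ∀ i, x i ∈ Subgroup.normalizer (ML L κ : Set G) := by
    intro i
    refine mem_norm_pow (h.pf.prime i).pos (h.pf.pow i) ?_
    rintro _ ⟨s, rfl⟩
    change x i * κ (res F s) * (x i)⁻¹ ∈ _
    rw [h.lift, cj_res (a i) (hlin i)]
    exact ⟨_, rfl⟩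
  rcases hRC with hRC | ⟨i₀, hi₀⟩
  · exact mrule_RC hS hSn x r h.pf.prime h.pf.inj h.pf.pow h.pf.comm _ hMperf π hπ hπk hnorm hRC ω
      fun m _ => h.cov _
  · refine mrule_one hS hSn x r h.pf.prime h.pf.inj h.pf.pow h.pf.comm _ hMperf π hπ hπk i₀ (hnorm i₀) ?_ ω
      fun m _ => h.cov _
    intro i hi
    obtain ⟨c, hc⟩ := hi₀ i hi
    exact cent_of_scalar h hc

end mrule

end Cfsg.Agent.H338.RC
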