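import Cfsg.Agent.H338.RC.ExtM

/-!
# Extension fields: elimination (helper338, S3510, row A, box B)

* `no_ext` : no minimal cover by linear elements commuting with a proper extension field `L` of `F`
  with `2 ≤ dim_L V` which are not all `L`-scalars.
-/

set_option autoImplicit false
open Cfsg

namespace Cfsg.Agent.H338.RC

open MulAction Cfsg.Agent.H106.RC Cfsg.Agent.H202.RC Module
open scoped commutatorElement

section alg

variable {F L V : Type*} [Field F] [Field L] [Algebra F L] [AddCommGroup V] [Module F V] [Module L V]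
  [IsScalarTower F L V]

/-- the map `v ↦ g (φ v) w` -/
def hg (g : L →ₗ[F] L) (φ : Dual L V) (w : V) : V →ₗ[F] V where
  toFun v := g (φ v) • w
  map_add' u v := by rw [map_add, map_add, add_smul]
  map_smul' c v := by
    rw [← algebraMap_smul L c v, map_smul, algebraMap_smul, map_smul, RingHom.id_apply, smul_assoc]

@[simp] theorem hg_apply (g : L →ₗ[F] L) (φ : Dual L V) (w v : V) : hg g φ w v = g (φ v) • w := rfl

theorem hg_sq (g : L →ₗ[F] L) (φ : Dual L V) {w : V} (hw : φ w = 0) (v : V) : hg g φ w (hg g φ w v) = 0 := by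
  rw [hg_apply, hg_apply, map_smul, hw, smul_zero, map_zero, zero_smul]

/-- the map `g ↦ α g(β ·) - g` -/
def TT (F : Type*) {L : Type*} [Field F] [Field L] [Algebra F L] (α β : L) (g : L →ₗ[F] L) : L →ₗ[F] L :=
  Algebra.lmul F L α ∘ₗ g ∘ₗ Algebra.lmul F L β - g

theorem TT_apply (α β : L) (g : L →ₗ[F] L) (c : L) : TT F α β g c = α * g (β * c) - g c := rfl

theorem TT_surj [Finite L] {α β : L} (h : ∀ g : L →ₗ[F] L, (∀ c, α * g (β * c) = g c) → g = 0) :
    Function.Surjective (TT F α β) := by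
  have : Finite (L →ₗ[F] L) := DFunLike.finite _
  rw [← Finite.injective_iff_surjective]
  intro g g' hgg
  have h1 : g - g' = 0 := by
    apply h
    intro c
    have h2 := congrArg (fun f : L →ₗ[F] L => f c) hgg
    simp only [TT_apply] at h2
    rw [LinearMap.sub_apply, LinearMap.sub_apply, mul_sub]
    linear_combination h2
  exact sub_eq_zero.1 h1

theorem TT_surj_three [Finite L] {α : L} (hα : α ≠ 1) : Function.Surjective (TT F α 1) := by
  apply TT_surj
  intro g hg
  refine LinearMap.ext fun c => ?_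
  have h1 := hg c
  rw [one_mul] at h1
  have h2 : (α - 1) * g c = 0 := by rw [sub_mul, one_mul, h1, sub_self]
  rcases mul_eq_zero.1 h2 with h3 | h3
  · exact (hα (sub_eq_zero.1 h3)).elim
  · exact h3

omit [Field L] in
theorem exists_notMem [Finite L] {s : Finset L} (h : s.card < Nat.card L) : ∃ t, t ∉ s := by
  by_contra hcon
  push Not at hcon
  have : Fintype L := Fintype.ofFinite L
  have h1 : s = Finset.univ := Finset.eq_univ_iff_forall.2 hcon
  rw [h1, Finset.card_univ, Nat.card_eq_fintype_card] at h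
  exact lt_irrefl _ h

theorem TT_surj_two [Finite L] (h4 : 4 < Nat.card L) {β : Lˣ} (hβ : ∀ t : Lˣ, t ∈ Subgroup.zpowers β) :
    Function.Surjective (TT F (β : L) (β : L)) := by
  classical
  apply TT_surj
  intro g hg
  have key : ∀ t : Lˣ, ∀ c : L, (t : L) * g (t * c) = g c := by
    let H : Subgroup Lˣ :=
      { carrier := {t | ∀ c : L, (t : L) * g (t * c) = g c}
        one_mem' := fun c => by rw [Units.val_one, one_mul, one_mul]
        mul_mem' := by
          intro s t hs ht c
          rw [Units.val_mul, mul_comm (s : L) t, mul_assoc, mul_comm (t : L) s, mul_assoc, hs, ht]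
        inv_mem' := by
          intro t ht c
          have h1 := ht (((t⁻¹ : Lˣ) : L) * c)
          rw [← mul_assoc, Units.mul_inv, one_mul] at h1
          rw [← h1, ← mul_assoc, Units.inv_mul, one_mul] }
    intro t
    have h1 : Subgroup.zpowers β ≤ H := by
      rw [Subgroup.zpowers_le]
      exact hg
    exact h1 (hβ t)
  have h1 : ∀ t : L, t ≠ 0 → t * g t = g 1 := fun t ht => by simpa using key (Units.mk0 t ht) 1
  by_cases h0 : g 1 = 0
  · refine LinearMap.ext fun c => ?_
    by_cases hc : c = 0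
    · rw [hc, map_zero]
      rfl
    · have h2 := h1 c hc
      rw [h0] at h2
      exact (mul_eq_zero.1 h2).resolve_left hc
  exfalso
  have h2 : ∀ t : L, t ≠ 0 → t ≠ -1 → t ^ 2 + t + 1 = 0 := by
    intro t ht ht1
    have h3 := h1 t ht
    have h4 := h1 (t + 1) (fun h => ht1 (eq_neg_of_add_eq_zero_left h))
    rw [map_add] at h4
    have h5 : (t ^ 2 + t + 1) * g 1 = 0 := by
      linear_combination t * h4 - (t + 1) * h3
    exact (mul_eq_zero.1 h5).resolve_right h0
  obtain ⟨t, ht⟩ := exists_notMem (L := L) (s := {0, -1}) (lt_of_le_of_lt Finset.card_le_two (by omega))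
  obtain ⟨s, hs⟩ := exists_notMem (L := L) (s := {0, -1, t, -1 - t}) (lt_of_le_of_lt Finset.card_le_four h4)
  simp only [Finset.mem_insert, Finset.mem_singleton, not_or] at ht hs
  have h5 := h2 t ht.1 ht.2
  have h6 := h2 s hs.1 hs.2.1
  have h7 : (s - t) * (s + t + 1) = 0 := by linear_combination h6 - h5
  rcases mul_eq_zero.1 h7 with h8 | h8
  · exact hs.2.2.1 (sub_eq_zero.1 h8)
  · exact hs.2.2.2 (by linear_combination h8)

end alg

section diag

variable {F L V : Type*} [Field F] [Field L] [Algebra F L] [AddCommGroup V] [Module F V] [Module L V]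
  [IsScalarTower F L V] {κ' : Type*} [Fintype κ'] [DecidableEq κ']

/-- the entries -/
def dgf {κ' L : Type*} [DecidableEq κ'] [Field L] (i j : κ') (β : Lˣ) (k : κ') : L :=
  if k = i then (β : L) else if k = j then ((β⁻¹ : Lˣ) : L) else 1

omit [Fintype κ'] in
theorem dgf_ne_zero (i j : κ') (β : Lˣ) (k : κ') : dgf i j β k ≠ 0 := by
  unfold dgf
  split_ifs
  · exact β.ne_zero
  · exact (β⁻¹).ne_zero
  · exact one_ne_zero

/-- `diag(β, β⁻¹, 1, …)` as a matrix -/
def dgm {i j : κ'} (hij : i ≠ j) (β : Lˣ) : Matrix.SpecialLinearGroup κ' L :=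
  ⟨Matrix.diagonal (dgf i j β), by
    rw [Matrix.det_diagonal, Fintype.prod_eq_mul i j hij (by
      intro k hk
      unfold dgf
      rw [if_neg hk.1, if_neg hk.2])]
    unfold dgf
    rw [if_pos rfl, if_neg hij.symm, if_pos rfl, Units.mul_inv]⟩

/-- `diag(β, β⁻¹, 1, …)` -/
noncomputable def dg (b : Basis κ' L V) {i j : κ'} (hij : i ≠ j) (β : Lˣ) : SLV L V :=
  slE b (dgm hij β)

theorem coord_dg (b : Basis κ' L V) {i j : κ'} (hij : i ≠ j) (β : Lˣ) (k : κ') (v : V) :
    b.coord k ((dg b hij β : V ≃ₗ[L] V) v) = dgf i j β k * b.coord k v := by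
  unfold dg
  rw [slE_apply, Basis.coord_apply, Matrix.repr_toLin]
  change (Matrix.diagonal (dgf i j β)).mulVec (b.repr v) k = _
  rw [Matrix.mulVec_diagonal]
  rfl

theorem dg_basis (b : Basis κ' L V) {i j : κ'} (hij : i ≠ j) (β : Lˣ) (k : κ') :
    (dg b hij β : V ≃ₗ[L] V) (b k) = dgf i j β k • b k := by
  refine b.ext_elem fun l => ?_
  rw [← Basis.coord_apply, coord_dg, map_smul, Basis.coord_apply, Basis.repr_self, Finsupp.smul_apply, smul_eq_mul]
  by_cases h : k = l
  · rw [h]
  · rw [Finsupp.single_eq_of_ne (by simpa [eq_comm] using h), mul_zero, mul_zero]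

theorem dg_pow [Finite L] (b : Basis κ' L V) {i j : κ'} (hij : i ≠ j) (β : Lˣ) :
    dg b hij β ^ (Nat.card L - 1) = 1 := by
  have : Fintype L := Fintype.ofFinite L
  unfold dg
  rw [← map_pow]
  have h1 : dgm hij β ^ (Nat.card L - 1) = (1 : Matrix.SpecialLinearGroup κ' L) := by
    apply Subtype.ext
    rw [Matrix.SpecialLinearGroup.coe_pow, Matrix.SpecialLinearGroup.coe_one]
    change Matrix.diagonal (dgf i j β) ^ (Nat.card L - 1) = 1
    rw [Matrix.diagonal_pow, ← Matrix.diagonal_one]
    congr 1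
    funext k
    rw [Pi.pow_apply, Nat.card_eq_fintype_card]
    exact FiniteField.pow_card_sub_one_eq_one _ (dgf_ne_zero i j β k)
  rw [h1, map_one]

omit [Fintype κ'] [DecidableEq κ'] in
/-- conjugation of `1 + h_g` by a diagonal element -/
theorem cj_uh_hg {b : Basis κ' L V} {i j : κ'} {t : SLV L V} {α β δ : L}
    (h1 : (t : V ≃ₗ[L] V) (b i) = α • b i) (h2 : ∀ v, b.coord j ((t : V ≃ₗ[L] V) v) = δ * b.coord j v)
    (h3 : β * δ = 1) (g g' : L →ₗ[F] L) (hg' : g' = TT F α β g) (h0 : b.coord j (b i) = 0) :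
    (uh (hg g (b.coord j) (b i)) (hg_sq _ _ h0) : SLV F V)⁻¹ *
      cj (res F t) (uh (hg g (b.coord j) (b i)) (hg_sq _ _ h0)) = uh (hg g' (b.coord j) (b i)) (hg_sq _ _ h0) := by
  rw [inv_mul_eq_iff_eq_mul]
  apply cj_eq
  intro v
  rw [coe_mul_apply]
  simp only [uh_apply, hg_apply, res_apply, map_add, map_smul, h0, h1, h2, hg', TT_apply, smul_zero, add_zero,
    ← mul_assoc, h3, one_mul, map_zero, zero_smul]
  rw [add_assoc, ← add_smul, add_sub_cancel, smul_smul, mul_comm]

end diag

section gen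

variable {F L V : Type*} [Field F] [Field L] [Algebra F L] [AddCommGroup V] [Module F V] [Module L V]
  [IsScalarTower F L V]

theorem mem_one {κ' : Type*} [Fintype κ'] [DecidableEq κ'] [Finite L] (b : Basis κ' L V) {S : Subgroup (SLV F V)}
    (hS : ∀ (W : Submodule L V) (t : SLV L V), t ^ (Nat.card L - 1) = 1 → (∀ w ∈ W, (t : V ≃ₗ[L] V) w ∈ W) →
      ∀ u ∈ QW (W.restrictScalars F), u⁻¹ * cj (res F t) u ∈ S)
    (h3 : 4 < Nat.card L ∨ (3 ≤ Fintype.card κ' ∧ 2 < Nat.card L)) {i j : κ'} (hij : i ≠ j) (g : L →ₗ[F] L) :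
    uh (hg g (b.coord j) (b i)) (hg_sq _ _ (by simp [Basis.coord_apply, hij])) ∈ S := by
  have h0 : b.coord j (b i) = 0 := by simp [Basis.coord_apply, hij]
  -- general case
  have key : ∀ (t : SLV L V) (α β δ : L), t ^ (Nat.card L - 1) = 1 → (t : V ≃ₗ[L] V) (b i) = α • b i →
      (∀ v, b.coord j ((t : V ≃ₗ[L] V) v) = δ * b.coord j v) → β * δ = 1 → Function.Surjective (TT F α β) →
      uh (hg g (b.coord j) (b i)) (hg_sq _ _ h0) ∈ S := by
    intro t α β δ ht h1 h2 h4 h5
    obtain ⟨g', hg'⟩ := h5 g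
    rw [← cj_uh_hg h1 h2 h4 g' g hg'.symm h0]
    apply hS (Submodule.span L {b i}) t ht
    · intro w hw
      rw [Submodule.mem_span_singleton] at hw ⊢
      obtain ⟨c, rfl⟩ := hw
      exact ⟨c * α, by rw [map_smul, h1, mul_smul]⟩
    · apply uh_mem_QW
      · intro v
        rw [Submodule.restrictScalars_mem, hg_apply]
        exact Submodule.smul_mem _ _ (Submodule.mem_span_singleton_self _)
      · intro w hw
        rw [Submodule.restrictScalars_mem, Submodule.mem_span_singleton] at hw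
        obtain ⟨c, rfl⟩ := hw
        rw [hg_apply, map_smul, h0, smul_zero, map_zero, zero_smul]
  rcases h3 with h3 | ⟨h3, h4⟩
  · obtain ⟨β, hβ⟩ := IsCyclic.exists_generator (α := Lˣ)
    refine key (dg b hij β) β β ((β⁻¹ : Lˣ) : L) (dg_pow b hij β) ?_ ?_ (Units.mul_inv β) (TT_surj_two h3 hβ)
    · rw [dg_basis]
      unfold dgf
      rw [if_pos rfl]
    · intro v
      rw [coord_dg]
      unfold dgf
      rw [if_neg hij.symm, if_pos rfl]
  · classical
    obtain ⟨k, hk⟩ : ∃ k : κ', k ∉ ({i, j} : Finset κ') := by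
      by_contra hcon
      push Not at hcon
      have h5 : ({i, j} : Finset κ') = Finset.univ := Finset.eq_univ_iff_forall.2 hcon
      have h6 := Finset.card_le_two (a := i) (b := j)
      rw [h5, Finset.card_univ] at h6
      omega
    simp only [Finset.mem_insert, Finset.mem_singleton, not_or] at hk
    obtain ⟨β, hβ⟩ := exists_notMem (L := L) (s := {0, 1}) (lt_of_le_of_lt Finset.card_le_two h4)
    simp only [Finset.mem_insert, Finset.mem_singleton, not_or] at hβ
    refine key (dg b (Ne.symm hk.1) (Units.mk0 β hβ.1)) β 1 1 (dg_pow b _ _) ?_ ?_ (mul_one 1) (TT_surj_three hβ.2)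
    · rw [dg_basis]
      unfold dgf
      rw [if_pos rfl, Units.val_mk0]
    · intro v
      rw [coord_dg]
      unfold dgf
      rw [if_neg hij.symm, if_neg (Ne.symm hk.2)]

/-- a basis containing a given vector -/
theorem exists_basis_with {L V : Type*} [Field L] [AddCommGroup V] [Module L V] [Module.Finite L V] {w : V} (hw : w ≠ 0) :
    ∃ (b : Basis (Fin (finrank L V)) L V) (i : Fin (finrank L V)), b i = w := by
  have hli : LinearIndepOn L id ({w} : Set V) := by
    rw [linearIndepOn_singleton_iff]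
    exact hw
  let b := Basis.extend hli
  have : Fintype (hli.extend (Set.subset_univ _)) := FiniteDimensional.fintypeBasisIndex b
  have hwm : w ∈ hli.extend (Set.subset_univ _) := hli.subset_extend _ (Set.mem_singleton w)
  have hcard : Fintype.card (hli.extend (Set.subset_univ ({w} : Set V))) = finrank L V := (finrank_eq_card_basis b).symm
  let e := Fintype.equivFinOfCardEq hcard
  refine ⟨b.reindex e, e ⟨w, hwm⟩, ?_⟩
  rw [Basis.reindex_apply, Equiv.symm_apply_apply]
  exact Basis.extend_apply_self hli _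

theorem mem_two {κ' : Type*} [Fintype κ'] [DecidableEq κ'] [Finite L] (b : Basis κ' L V) {S : Subgroup (SLV F V)}
    (hS : ∀ (W : Submodule L V) (t : SLV L V), t ^ (Nat.card L - 1) = 1 → (∀ w ∈ W, (t : V ≃ₗ[L] V) w ∈ W) →
      ∀ u ∈ QW (W.restrictScalars F), u⁻¹ * cj (res F t) u ∈ S)
    (h3 : 4 < Nat.card L ∨ (3 ≤ Fintype.card κ' ∧ 2 < Nat.card L)) (i : κ') (φ : Dual F V)
    (hφ : ∀ c : L, φ (c • b i) = 0) (h : φ (b i) = 0) : tv φ (b i) h ∈ S := by
  let ψ : κ' → Dual F V := fun j => φ ∘ₗ ((b.coord j).smulRight (b j)).restrictScalars F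
  have hψ : ∀ j v, ψ j v = φ (b.coord j v • b j) := fun j v => rfl
  have hsum : φ = ∑ j, ψ j := by
    refine LinearMap.ext fun v => ?_
    rw [LinearMap.sum_apply]
    simp only [hψ]
    rw [← map_sum]
    congr 1
    exact (b.sum_repr v).symm
  have hfinal : ∃ h' : (∑ j, ψ j) (b i) = 0, tv (∑ j, ψ j) (b i) h' ∈ S := by
    refine Finset.sum_induction ψ (fun ψ => ∃ h' : ψ (b i) = 0, tv ψ (b i) h' ∈ S) ?_ ?_ ?_
    · rintro ψ1 ψ2 ⟨h1, h1'⟩ ⟨h2, h2'⟩
      refine ⟨by rw [LinearMap.add_apply, h1, h2, add_zero], ?_⟩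
      rw [← tv_mul_left _ _ _ h1 h2]
      exact S.mul_mem h1' h2'
    · refine ⟨rfl, ?_⟩
      rw [tv_zero_left]
      exact S.one_mem
    · intro j _
      by_cases hij : j = i
      · have h1 : ψ j = 0 := by
          refine LinearMap.ext fun v => ?_
          rw [hψ, hij, hφ]
          rfl
        rw [h1]
        refine ⟨rfl, ?_⟩
        rw [tv_zero_left]
        exact S.one_mem
      · have h0 : b.coord j (b i) = 0 := by simp [Basis.coord_apply, Ne.symm hij]
        have h1 : ψ j (b i) = 0 := by rw [hψ, h0, zero_smul, map_zero]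
        refine ⟨h1, ?_⟩
        let g : L →ₗ[F] L := (Algebra.linearMap F L) ∘ₗ φ ∘ₗ ((LinearMap.id : L →ₗ[L] L).smulRight (b j)).restrictScalars F
        have hgd : ∀ c, g c = algebraMap F L (φ (c • b j)) := fun c => rfl
        have h2 := mem_one b hS h3 (Ne.symm hij) g
        have h3 : tv (ψ j) (b i) h1 = uh (hg g (b.coord j) (b i)) (hg_sq _ _ h0) := by
          apply SLV.ext
          intro v
          rw [tv_apply, uh_apply, hg_apply, hgd, hψ, algebraMap_smul]
        rw [h3]
        exact h2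
  rw [← hsum] at hfinal
  exact hfinal.2

theorem eq_top_of [FiniteDimensional F V] [Finite L] {S : Subgroup (SLV F V)} (h2 : 2 ≤ finrank L V)
    (hS : ∀ (W : Submodule L V) (t : SLV L V), t ^ (Nat.card L - 1) = 1 → (∀ w ∈ W, (t : V ≃ₗ[L] V) w ∈ W) →
      ∀ u ∈ QW (W.restrictScalars F), u⁻¹ * cj (res F t) u ∈ S)
    (h3 : 4 < Nat.card L ∨ (3 ≤ finrank L V ∧ 2 < Nat.card L)) : S = ⊤ := by
  classical
  have hfin : Module.Finite L V := Module.finite_of_finrank_pos (by omega)
  have hF : Finite F := Finite.of_injective _ (algebraMap F L).injective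
  have hFL : FiniteDimensional F L := Module.Finite.of_finite
  -- the transvections with `φ (L w) = 0`
  have hone : ∀ (w : V) (φ : Dual F V) (h : φ w = 0), (∀ c : L, φ (c • w) = 0) → tv φ w h ∈ S := by
    intro w φ h hφ
    by_cases hw : w = 0
    · subst hw
      rw [tv_zero_right]
      exact S.one_mem
    obtain ⟨b, i, rfl⟩ := exists_basis_with (L := L) hw
    exact mem_two b hS (by rwa [Fintype.card_fin]) i φ hφ h
  have hgen := gen (F := F) (K := L) (V := V) h2 (S := S.map (SLV F V).subtype) (by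
    intro w f hf hfw
    exact ⟨tv f w hf, hone w f hf hfw, rfl⟩)
  rw [eq_top_iff, ← closure_tv, Subgroup.closure_le]
  rintro _ ⟨φ, v, h, rfl⟩
  obtain ⟨s, hs, hs'⟩ := hgen v φ h
  have h4 : s = tv φ v h := Subtype.ext hs'
  rw [← h4]
  exact hs

end gen

section qw

variable {F V : Type*} [Field F] [AddCommGroup V] [Module F V]

theorem cj_mem_QW [FiniteDimensional F V] {W : Submodule F V} {a : V ≃ₗ[F] V} (ha : ∀ w ∈ W, a w ∈ W) {s : SLV F V}
    (hs : s ∈ QW W) : cj a s ∈ QW W := by
  have hmap : W.map (a : V →ₗ[F] V) = W := by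
    apply Submodule.eq_of_le_of_finrank_eq
    · rintro _ ⟨w, hw, rfl⟩
      exact ha w hw
    · exact LinearEquiv.finrank_map_eq a W
  constructor
  · intro v
    obtain ⟨v', rfl⟩ := a.surjective v
    rw [cj_apply, ← map_sub]
    exact ha _ (hs.1 v')
  · intro w hw
    rw [← hmap] at hw
    obtain ⟨w', hw', rfl⟩ := hw
    change (cj a s : V ≃ₗ[F] V) (a w') = a w'
    rw [cj_apply, hs.2 w' hw']

end qw

section main

variable {F L V : Type} [Field F] [Field L] [Algebra F L] [AddCommGroup V] [Module F V] [Module L V]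
  [IsScalarTower F L V] {G Ω : Type} [Group G] [MulAction G Ω] {N : Subgroup G} {κ : SLV F V →* G}
  {ι : Type} {x : ι → G} {r : ι → ℕ} {a : ι → V ≃ₗ[F] V} [Finite L] [Finite ι] [Finite G]

/-- box B (S3510, row A) : no proper extension field -/
theorem no_ext (h : LinCov Ω N κ x r a) (hl : 2 ≤ finrank F L) (hm : 2 ≤ finrank L V)
    (hex : ¬ (Nat.card F = 2 ∧ finrank F V = 4)) (hlin : ∀ (i : ι) (c : L) (v : V), a i (c • v) = c • a i v)
    (hns : ∃ i, ¬ ∃ c : L, ∀ v, a i v = c • v)
    (hRC : RC (Matrix.ProjectiveSpecialLinearGroup (Fin (finrank L V)) L) ∨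
      ∃ i₀, ∀ i, i ≠ i₀ → ∃ c : L, ∀ v, a i v = c • v) : False := by
  classical
  have hfin : Module.Finite L V := Module.finite_of_finrank_pos (by omega)
  have hF : Finite F := Finite.of_injective _ (algebraMap F L).injective
  have hFL : FiniteDimensional F L := Module.Finite.of_finite
  have hFV : FiniteDimensional F V := Module.Finite.trans L V
  have hcardL : Nat.card L = Nat.card F ^ finrank F L := Module.natCard_eq_pow_finrank
  have hcF : 2 ≤ Nat.card F := Finite.one_lt_card
  have hmul : finrank F L * finrank L V = finrank F V := Module.finrank_mul_finrank F L V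
  -- size of `L`
  have h4 : 4 ≤ Nat.card L := by
    rw [hcardL]
    calc 4 = 2 ^ 2 := by norm_num
      _ ≤ Nat.card F ^ 2 := Nat.pow_le_pow_left hcF 2
      _ ≤ Nat.card F ^ finrank F L := Nat.pow_le_pow_right (by omega) hl
  have h3 : 4 < Nat.card L ∨ (3 ≤ finrank L V ∧ 2 < Nat.card L) := by
    by_contra hcon
    push Not at hcon
    have h5 : Nat.card L = 4 := by omega
    have h6 : finrank L V = 2 := by
      by_contra h7
      have := hcon.2 (by omega)
      omega
    have h7 : Nat.card F = 2 := by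
      by_contra h8
      have h9 : 3 ^ 2 ≤ Nat.card L := by
        rw [hcardL]
        calc 3 ^ 2 ≤ Nat.card F ^ 2 := Nat.pow_le_pow_left (by omega) 2
          _ ≤ Nat.card F ^ finrank F L := Nat.pow_le_pow_right (by omega) hl
      omega
    have h8 : finrank F L = 2 := by
      by_contra h8
      have h9 : 2 ^ 3 ≤ Nat.card L := by
        rw [hcardL, h7]
        exact Nat.pow_le_pow_right (by omega) (by omega)
      omega
    exact hex ⟨h7, by rw [← hmul, h6, h8]⟩
  obtain ⟨i₁, hi₁⟩ := hns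
  obtain ⟨ω, hω1, hω2⟩ := h.min i₁
  -- the M-rule
  have hM := mrule_ext h hl hm hlin hRC
  have hcen : ∀ j, (∀ m ∈ ML L κ, x j * m = m * x j) → j ≠ i₁ := by
    rintro j hj rfl
    exact hi₁ (scalar_of_cent h hm (hlin j) hj)
  have hMω : ML L κ ≤ stabilizer G ω := by
    rcases hM ω with h1 | ⟨j, hj, hjω⟩
    · exact h1
    · exact (hω2 j (hcen j hj) hjω).elim
  -- characteristic
  obtain ⟨p, hp⟩ := CharP.exists F
  have hpp : p.Prime := CharP.char_is_prime F p
  have : Fact p.Prime := ⟨hpp⟩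
  have hpL : CharP L p := charP_of_injective_algebraMap (algebraMap F L).injective p
  have hpcard : p ∣ Nat.card L := by
    have : Fintype L := Fintype.ofFinite L
    obtain ⟨k, -, hk⟩ := FiniteField.card L p
    rw [Nat.card_eq_fintype_card, hk]
    exact dvd_pow_self p k.ne_zero
  have hcop1 : (Nat.card L - 1).Coprime p := by
    rw [Nat.coprime_comm, Nat.Prime.coprime_iff_not_dvd hpp]
    intro h5
    have h6 := Nat.dvd_sub hpcard h5
    have h7 : Nat.card L - (Nat.card L - 1) = 1 := by omega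
    rw [h7] at h6
    exact hpp.one_lt.ne' (Nat.dvd_one.1 h6)
  -- the main step
  have key : ∀ (W : Submodule L V) (t : SLV L V), t ^ (Nat.card L - 1) = 1 →
      (∀ w ∈ W, (t : V ≃ₗ[L] V) w ∈ W) →
      ∀ u ∈ QW (W.restrictScalars F), u⁻¹ * cj (res F t) u ∈ (stabilizer G ω).comap κ := by
    intro W t ht htW
    set U : Subgroup G := (QW (W.restrictScalars F)).map κ with hU
    have hyM : κ (res F t) ∈ ML L κ := ⟨t, rfl⟩
    let J := {j : ι // ∀ m ∈ ML L κ, x j * m = m * x j}
    let X : Option J → G := fun o => o.elim (κ (res F t)) (fun j => x j.1)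
    let E : Option J → ℕ := fun o => o.elim (Nat.card L - 1) (fun j => r j.1)
    have hUp : IsPGroup p U := by
      rintro ⟨_, ⟨u, hu, rfl⟩⟩
      refine ⟨1, Subtype.ext ?_⟩
      change κ u ^ p ^ 1 = 1
      rw [pow_one, ← map_pow, QW_pow hu, map_one]
    obtain ⟨k, hk⟩ := IsPGroup.iff_card.1 hUp
    obtain ⟨o, ho⟩ := cover_gen (x := X) (N := E) (U := U) (by
      rintro (_ | j)
      · change Nat.card L - 1 ≠ 0
        omega
      · exact (h.pf.prime j.1).ne_zero) (by
      rintro (_ | j)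
      · change κ (res F t) ^ (Nat.card L - 1) = 1
        rw [← map_pow, ← map_pow, ht, map_one, map_one]
      · exact h.pf.pow j.1) (by
      rintro (_ | i) (_ | j)
      · rfl
      · exact (j.2 _ hyM).symm
      · exact i.2 _ hyM
      · exact h.pf.comm i.1 j.1) (by
      rintro (_ | j) _ ⟨u, hu, rfl⟩
      · change κ (res F t) * κ u * (κ (res F t))⁻¹ ∈ U
        rw [← map_mul, ← map_inv, ← map_mul]
        exact ⟨_, cj_mem_QW (a := ((res F t : SLV F V) : V ≃ₗ[F] V)) (fun w hw => htW w hw) hu, rfl⟩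
      · change x j.1 * κ u * (x j.1)⁻¹ ∈ U
        rw [h.lift]
        obtain ⟨c, hc⟩ := scalar_of_cent h hm (hlin j.1) j.2
        refine ⟨_, cj_mem_QW (a := a j.1) (fun w hw => ?_) hu, rfl⟩
        rw [hc]
        exact W.smul_mem c hw) (by
      rintro _ ⟨u, hu, rfl⟩ _ ⟨v, hv, rfl⟩
      rw [← map_mul, ← map_mul, QW_comm hu hv]) (by
      rw [hk]
      rintro (_ | i) (_ | j) hi hj
      · rfl
      · exact (hi (Nat.Coprime.pow_right k hcop1)).elim
      · exact (hj (Nat.Coprime.pow_right k hcop1)).elim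
      · have h5 : ∀ i : J, ¬ (r i.1).Coprime (p ^ k) → r i.1 = p := by
          intro i hi
          by_contra h6
          exact hi (Nat.Coprime.pow_right k ((Nat.coprime_primes (h.pf.prime i.1) hpp).2 h6))
        have h6 : i.1 = j.1 := h.pf.inj ((h5 i hi).trans (h5 j hj).symm)
        rw [Subtype.ext h6]) ω (by
      intro u _
      rcases hM (u • ω) with h5 | ⟨j, hj, hjω⟩
      · exact ⟨none, h5 hyM⟩
      · exact ⟨some ⟨j, hj⟩, hjω⟩)
    rcases o with _ | j
    · intro u hu
      rw [Subgroup.mem_comap, map_mul, map_inv, mem_stabilizer_iff]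
      have h5 : κ (res F t) • κ u • ω = κ u • ω := ho _ ⟨u, hu, rfl⟩
      have h6 : κ (cj (res F t) u) = κ (res F t) * κ u * (κ (res F t))⁻¹ := by
        rw [← map_mul, ← map_inv, ← map_mul]
        rfl
      have h7 : (κ (res F t))⁻¹ • ω = ω := (stabilizer G ω).inv_mem (hMω hyM)
      rw [h6, mul_smul, mul_smul, mul_smul, h7, h5, inv_smul_smul]
    · exfalso
      have h5 : x j.1 • (1 : G) • ω = (1 : G) • ω := ho 1 U.one_mem
      rw [one_smul] at h5
      exact hω2 j.1 (hcen j.1 j.2) h5
  have htop := eq_top_of hm key h3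
  apply h.fr.env.nofix ω
  rw [← h.fr.range]
  rintro _ ⟨s, rfl⟩
  have h5 : s ∈ (stabilizer G ω).comap κ := by
    rw [htop]
    trivial
  exact h5

end main

end Cfsg.Agent.H338.RC
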