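import Cfsg.Agent.H450.UF.Count
import Cfsg.Agent.H93.RC.Defs

/-!
# S3510, row F, box C: the hermitian form (helper338)

`K` a quadratic extension of `F` acting on `V` with `Q (a v) = N(a) Q(v)`.
* `HK.hm` : the hermitian form `h` with `h(v,v) = Q v`, `h + h^q = polar Q`;
* `HK.exists_phi` : `V ≃ K^m` isometric to the standard hermitian space.
-/

set_option autoImplicit false
set_option linter.unusedSectionVars false
open Cfsg

namespace Cfsg.Agent.H338.RC

open QuadraticMap Module
open Cfsg.Agent.LieClassical.OrthCore Cfsg.Agent.LieClassical.HermBasic Cfsg.Agent.H91.U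

variable {F K V : Type*} [Field F] [Field K] [Fintype K] [Algebra F K] [AddCommGroup V] [Module F V] [Module K V]
  [IsScalarTower F K V] {Q : QuadraticForm F V} {q : ℕ}

/-- `K` acts by similitudes with multiplier the norm -/
structure HK (Q : QuadraticForm F V) (K : Type*) [Field K] [Fintype K] [Algebra F K] [Module K V] (q : ℕ) : Prop where
  card : Fintype.card K = q ^ 2
  fix : ∀ a : K, a ^ q = a → ∃ c : F, algebraMap F K c = a
  base : ∀ c : F, (algebraMap F K c) ^ q = algebraMap F K c
  form : ∀ (a : K) (v : V), algebraMap F K (Q (a • v)) = a * a ^ q * algebraMap F K (Q v)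
  nondeg : Nondeg Q

namespace HK

variable (h : HK Q K q)
include h

theorem q_ne : q ≠ 0 := (q_pos h.card).ne'

theorem form_polar (a : K) (u v : V) :
    algebraMap F K (polar Q (a • u) (a • v)) = a * a ^ q * algebraMap F K (polar Q u v) := by
  unfold polar
  rw [← smul_add, map_sub, map_sub, h.form, h.form, h.form, map_sub, map_sub]
  ring

theorem norm_mem (a : K) : ∃ c : F, algebraMap F K c = a * a ^ q := h.fix _ (norm_pow_q h.card a)

theorem trace_mem (a : K) : ∃ c : F, algebraMap F K c = a + a ^ q := h.fix _ (trace_pow_q h.card a)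

theorem adj (a : K) (u v : V) : polar Q (a • u) v = polar Q u (a ^ q • v) := by
  apply (algebraMap F K).injective
  by_cases ha : a = 0
  · subst ha
    rw [zero_pow h.q_ne, zero_smul, zero_smul, QuadraticMap.polar_zero_left, QuadraticMap.polar_zero_right]
  · obtain ⟨c, hc⟩ := h.norm_mem a
    have h1 : v = a • a⁻¹ • v := (smul_inv_smul₀ ha v).symm
    conv_lhs => rw [h1]
    rw [h.form_polar, ← hc, ← map_mul, ← smul_eq_mul, ← QuadraticMap.polar_smul_right]
    congr 2
    rw [← algebraMap_smul K c, hc, smul_smul]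
    congr 1
    field_simp

/-- the generator -/
noncomputable def th (_ : HK Q K q) : K := Classical.choose (exists_not_fixed ‹HK Q K q›.card)

theorem th_ne : h.th ^ q ≠ h.th := Classical.choose_spec (exists_not_fixed h.card)

theorem sub_ne : h.th - h.th ^ q ≠ 0 := sub_ne_zero.2 (Ne.symm h.th_ne)

theorem decomp (a : K) : ∃ c d : F, a = algebraMap F K c + algebraMap F K d * h.th := by
  have hs := h.sub_ne
  have hq := pow_q_pow_q h.card
  obtain ⟨d, hd⟩ := h.fix ((a - a ^ q) * (h.th - h.th ^ q)⁻¹) (by
    rw [mul_pow, inv_pow, sub_pow_q h.card, sub_pow_q h.card, hq, hq]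
    rw [← neg_sub a (a ^ q), ← neg_sub h.th (h.th ^ q), inv_neg, neg_mul_neg])
  obtain ⟨c, hc⟩ := h.fix (a - algebraMap F K d * h.th) (by
    rw [sub_pow_q h.card, mul_pow, h.base]
    have h1 : (a - a ^ q) = algebraMap F K d * (h.th - h.th ^ q) := by
      rw [hd, mul_assoc, inv_mul_cancel₀ hs, mul_one]
    linear_combination -h1)
  exact ⟨c, d, by rw [hc, sub_add_cancel]⟩

/-- the hermitian form -/
noncomputable def hm (u v : V) : K :=
  (h.th - h.th ^ q)⁻¹ * (algebraMap F K (polar Q (h.th • u) v) - h.th ^ q * algebraMap F K (polar Q u v))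

theorem hm_def (u v : V) : h.hm u v =
  (h.th - h.th ^ q)⁻¹ * (algebraMap F K (polar Q (h.th • u) v) - h.th ^ q * algebraMap F K (polar Q u v)) := rfl

theorem hm_add_left (u u' v : V) : h.hm (u + u') v = h.hm u v + h.hm u' v := by
  simp only [hm_def, smul_add, QuadraticMap.polar_add_left, map_add]
  ring

theorem hm_add_right (u v v' : V) : h.hm u (v + v') = h.hm u v + h.hm u v' := by
  simp only [hm_def, QuadraticMap.polar_add_right, map_add]
  ring

theorem hm_base_left (c : F) (u v : V) : h.hm (c • u) v = algebraMap F K c * h.hm u v := by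
  have h1 : h.th • c • u = c • h.th • u := by rw [smul_algebra_smul_comm]
  rw [hm_def, hm_def, h1, QuadraticMap.polar_smul_left, QuadraticMap.polar_smul_left, smul_eq_mul, smul_eq_mul, map_mul,
    map_mul]
  ring

theorem th_sq (u : V) : ∃ T N : F, algebraMap F K T = h.th + h.th ^ q ∧ algebraMap F K N = h.th * h.th ^ q ∧
    h.th • h.th • u = T • h.th • u - N • u := by
  obtain ⟨T, hT⟩ := h.trace_mem h.th
  obtain ⟨N, hN⟩ := h.norm_mem h.th
  refine ⟨T, N, hT, hN, ?_⟩
  rw [← algebraMap_smul K T, ← algebraMap_smul K N, hT, hN, smul_smul, smul_smul, ← sub_smul]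
  congr 1
  ring

theorem hm_th_left (u v : V) : h.hm (h.th • u) v = h.th * h.hm u v := by
  obtain ⟨T, N, hT, hN, h1⟩ := h.th_sq u
  rw [hm_def, hm_def, h1, QuadraticMap.polar_sub_left, QuadraticMap.polar_smul_left, QuadraticMap.polar_smul_left,
    smul_eq_mul, smul_eq_mul, map_sub, map_mul, map_mul, hT, hN]
  ring

theorem hm_smul_left (a : K) (u v : V) : h.hm (a • u) v = a * h.hm u v := by
  obtain ⟨c, d, rfl⟩ := h.decomp a
  have h1 : (algebraMap F K c + algebraMap F K d * h.th) • u = c • u + d • h.th • u := by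
    rw [add_smul, algebraMap_smul, mul_smul, algebraMap_smul]
  rw [h1, hm_add_left, hm_base_left, hm_base_left, hm_th_left]
  ring

theorem hm_conj (u v : V) : (h.hm u v) ^ q =
    (h.th ^ q - h.th)⁻¹ * (algebraMap F K (polar Q (h.th • u) v) - h.th * algebraMap F K (polar Q u v)) := by
  have hq := pow_q_pow_q h.card
  rw [hm_def, mul_pow, inv_pow, sub_pow_q h.card, hq, sub_pow_q h.card, mul_pow, hq, h.base, h.base]

theorem hm_trace (u v : V) : h.hm u v + (h.hm u v) ^ q = algebraMap F K (polar Q u v) := by
  have hs := h.sub_ne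
  rw [hm_conj, hm_def, ← neg_sub h.th (h.th ^ q), inv_neg]
  field_simp
  ring

theorem hm_symm (u v : V) : h.hm v u = (h.hm u v) ^ q := by
  have hs := h.sub_ne
  obtain ⟨T, hT⟩ := h.trace_mem h.th
  have h1 : polar Q (h.th • v) u = T * polar Q u v - polar Q (h.th • u) v := by
    rw [QuadraticMap.polar_comm]
    have h2 : u = u := rfl
    have h3 : h.th • v = (h.th ^ q) ^ q • v := by rw [pow_q_pow_q h.card]
    rw [h3, ← h.adj]
    have h4 : (h.th ^ q) • u = T • u - h.th • u := by
      rw [← algebraMap_smul K T, hT, ← sub_smul]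
      congr 1
      ring
    rw [h4, QuadraticMap.polar_sub_left, QuadraticMap.polar_smul_left, smul_eq_mul]
  rw [hm_conj, hm_def, h1, QuadraticMap.polar_comm Q v u, map_sub, map_mul, hT, ← neg_sub h.th (h.th ^ q), inv_neg]
  ring

theorem hm_self (v : V) : h.hm v v = algebraMap F K (Q v) := by
  have hs := h.sub_ne
  have h1 : algebraMap F K (polar Q (h.th • v) v) = (h.th + h.th ^ q) * algebraMap F K (Q v) := by
    unfold polar
    have h2 : h.th • v + v = (h.th + 1) • v := by rw [add_smul, one_smul]
    rw [h2, map_sub, map_sub, h.form, h.form, add_pow_q h.card, one_pow]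
    ring
  have h2 : polar Q v v = 2 * Q v := polar_self' v
  rw [hm_def, h1, h2, map_mul, map_ofNat]
  field_simp
  ring

theorem hm_smul_right (a : K) (u v : V) : h.hm u (a • v) = a ^ q * h.hm u v := by
  rw [h.hm_symm (a • v) u, hm_smul_left, mul_pow, ← h.hm_symm]

/-- the sesquilinear form, semilinear in the first variable -/
noncomputable def B : V →ₛₗ[((conj h.card : K ≃+* K) : K →+* K)] V →ₗ[K] K :=
  LinearMap.mk₂'ₛₗ ((conj h.card : K ≃+* K) : K →+* K) (RingHom.id K) (fun v w => h.hm w v)
    (fun v v' w => h.hm_add_right w v v') (fun a v w => h.hm_smul_right a w v)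
    (fun v w w' => h.hm_add_left w w' v) (fun a v w => h.hm_smul_left a w v)

theorem B_apply (v w : V) : h.B v w = h.hm w v := rfl

theorem hform : HForm h.B where
  nd := by
    constructor
    · intro v hv
      apply h.nondeg
      intro w
      have h1 := h.hm_trace w v
      rw [← B_apply, hv, zero_pow h.q_ne, add_zero] at h1
      have h2 := (map_eq_zero (algebraMap F K)).1 h1.symm
      rw [QuadraticMap.polar_comm]
      exact h2
    · intro v hv
      apply h.nondeg
      intro w
      have h1 := h.hm_trace v w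
      rw [← B_apply, hv, zero_pow h.q_ne, add_zero] at h1
      exact (map_eq_zero (algebraMap F K)).1 h1.symm
  symm := ⟨fun v w => by
    rw [B_apply, B_apply]
    exact (h.hm_symm w v).symm⟩
  invol := fun a => pow_q_pow_q h.card a
  ne_id := by
    intro h1
    have h2 := congrArg (fun f : K →+* K => f h.th) h1
    exact h.th_ne h2

theorem exists_phi [FiniteDimensional K V] :
    ∃ φ : V ≃ₗ[K] (Fin (finrank K V) → K), ∀ v w, h.hm v w = hermForm (finrank K V) K q (φ v) (φ w) := by
  obtain ⟨φ, hφ⟩ := Cfsg.Agent.H450.UF.exists_model h.card h.hform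
  exact ⟨φ, fun v w => (h.B_apply w v).symm.trans (hφ w v)⟩

end HK

end Cfsg.Agent.H338.RC
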