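import Cfsg.Agent.H338.RC.HermA
import Cfsg.Agent.LieClassical.HermSimple
import Cfsg.Agent.H106.RC.Use
import Cfsg.Agent.H106.RC.Ari

/-!
# S3510, row F, box C: hermitian structure (helper338)
-/

set_option autoImplicit false
set_option linter.unusedSectionVars false
open Cfsg

namespace Cfsg.Agent.H338.RC

open QuadraticMap Module MulAction
open Cfsg.Agent.LieClassical.OrthCore Cfsg.Agent.LieClassical.HermBasic Cfsg.Agent.LieClassical.HermSiegel
open Cfsg.Agent.LieClassical.OrthTrans Cfsg.Agent.ClassicalGeometry.OrthSemi Cfsg.Agent.ClassicalGeometry.OrthAut1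
open Cfsg.Agent.H106.RC Cfsg.Agent.H93.RC

/-- the projection of the image of a perfect group onto the quotient by the centre -/
theorem exists_pi_gen {H G : Type*} [Group H] [Group G] (hH : commutator H = ⊤) (μ : H →* G)
    (hker : μ.ker ≤ Subgroup.center H) : ⁅μ.range, μ.range⁆ = μ.range ∧
      ∃ π : μ.range →* H ⧸ Subgroup.center H, Function.Surjective π ∧ π.ker ≤ Subgroup.center μ.range := by
  refine ⟨by rw [MonoidHom.range_eq_map, ← Subgroup.map_commutator, ← commutator_def, hH], ?_⟩
  let e1 : H ⧸ μ.ker ≃* μ.range := QuotientGroup.quotientKerEquivRange μ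
  let k : H ⧸ μ.ker →* H ⧸ Subgroup.center H := QuotientGroup.map μ.ker (Subgroup.center _) (MonoidHom.id _) hker
  have hks : Function.Surjective k := by
    intro y
    obtain ⟨s, rfl⟩ := QuotientGroup.mk_surjective y
    exact ⟨QuotientGroup.mk s, rfl⟩
  refine ⟨k.comp e1.symm.toMonoidHom, hks.comp e1.symm.surjective, ?_⟩
  intro y hy
  obtain ⟨s', hs'⟩ := e1.surjective y
  obtain ⟨s, rfl⟩ := QuotientGroup.mk_surjective s'
  have h1 : k (QuotientGroup.mk s) = 1 := by
    have h2 : k (e1.symm y) = 1 := hy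
    rwa [← hs', MulEquiv.symm_apply_apply] at h2
  have h2 : s ∈ Subgroup.center H := by
    have h3 : (QuotientGroup.mk s : H ⧸ Subgroup.center H) = 1 := h1
    exact (QuotientGroup.eq_one_iff s).1 h3
  rw [Subgroup.mem_center_iff] at h2 ⊢
  rintro ⟨_, ⟨t, rfl⟩⟩
  have h4 : (y : G) = μ s := by rw [← hs']; rfl
  apply Subtype.ext
  change μ t * (y : G) = (y : G) * μ t
  rw [h4, ← map_mul, ← map_mul, h2 t]

/-- a perfect group with nontrivial quotient: the quotient is not commutative -/
theorem not_comm_of_perf' {M S : Type*} [Group M] [Group S] (hM : commutator M = ⊤) (f : M →* S)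
    (hf : Function.Surjective f) (hS : IsSimpleGroup S) : ¬ IsMulCommutative S := by
  intro hc
  have h1 : ∀ m : M, f m = 1 := by
    intro m
    have h2 : commutator M ≤ f.ker := by
      rw [commutator_def, Subgroup.commutator_le]
      intro a _ b _
      rw [MonoidHom.mem_ker, map_commutatorElement, commutatorElement_eq_one_iff_mul_comm]
      exact hc.is_comm.comm _ _
    rw [hM] at h2
    exact h2 (Subgroup.mem_top m)
  obtain ⟨s, hs⟩ := exists_ne (1 : S)
  obtain ⟨m, rfl⟩ := hf s
  exact hs (h1 m)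

/-- an element of finite order conjugating `M` into `M` normalises `M` -/
theorem mem_norm_pow' {G : Type*} [Group G] {M : Subgroup G} {x : G} {k : ℕ} (hk : 0 < k) (hx : x ^ k = 1)
    (h : ∀ m ∈ M, x * m * x⁻¹ ∈ M) : x ∈ Subgroup.normalizer (M : Set G) := by
  have h1 : ∀ (j : ℕ), ∀ m ∈ M, x ^ j * m * (x ^ j)⁻¹ ∈ M := by
    intro j
    induction j with
    | zero => intro m hm; simpa using hm
    | succ j ih =>
      intro m hm
      have h2 := h _ (ih m hm)
      have h3 : x * (x ^ j * m * (x ^ j)⁻¹) * x⁻¹ = x ^ (j + 1) * m * (x ^ (j + 1))⁻¹ := by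
        rw [pow_succ']
        group
      rwa [h3] at h2
  rw [Subgroup.mem_normalizer_iff]
  intro m
  refine ⟨fun hm => h m hm, fun hm => ?_⟩
  have h2 := h1 (k - 1) _ hm
  have h3 : x ^ (k - 1) = x⁻¹ := by
    rw [eq_inv_iff_mul_eq_one, ← pow_succ, Nat.sub_add_cancel hk]
    exact hx
  rw [h3] at h2
  have h4 : x⁻¹ * (x * m * x⁻¹) * x⁻¹⁻¹ = m := by group
  rwa [h4] at h2

variable {F K V : Type*} [Field F] [Field K] [Fintype K] [Algebra F K] [AddCommGroup V] [Module F V] [Module K V]
  [IsScalarTower F K V] {Q : QuadraticForm F V} {q : ℕ} {m : ℕ}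

namespace HK

/-- `SU` acting on `V` -/
noncomputable def su (φ : V ≃ₗ[K] (Fin m → K)) : SU m K q →* (V ≃ₗ[F] V) where
  toFun g :=
    { toFun := fun v => φ.symm (act g (φ v))
      invFun := fun v => φ.symm (act g⁻¹ (φ v))
      map_add' := fun v w => by rw [map_add, act_add, map_add]
      map_smul' := fun c v => by
        rw [← algebraMap_smul K c v, map_smul, act_smul, map_smul, RingHom.id_apply, algebraMap_smul]
      left_inv := fun v => by
        change φ.symm (act g⁻¹ (φ (φ.symm (act g (φ v))))) = v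
        rw [LinearEquiv.apply_symm_apply, act_inv_act, LinearEquiv.symm_apply_apply]
      right_inv := fun v => by
        change φ.symm (act g (φ (φ.symm (act g⁻¹ (φ v))))) = v
        rw [LinearEquiv.apply_symm_apply, act_act_inv, LinearEquiv.symm_apply_apply] }
  map_one' := by
    ext v
    change φ.symm (act 1 (φ v)) = v
    rw [act_one, LinearEquiv.symm_apply_apply]
  map_mul' g g' := by
    ext v
    change φ.symm (act (g * g') (φ v)) = φ.symm (act g (φ (φ.symm (act g' (φ v)))))
    rw [act_mul, LinearEquiv.apply_symm_apply]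

theorem su_apply (φ : V ≃ₗ[K] (Fin m → K)) (g : SU m K q) (v : V) :
    (su (F := F) φ g) v = φ.symm (act g (φ v)) := rfl

theorem phi_su (φ : V ≃ₗ[K] (Fin m → K)) (g : SU m K q) (v : V) : φ ((su (F := F) φ g) v) = act g (φ v) := by
  rw [su_apply, LinearEquiv.apply_symm_apply]

theorem su_smul (φ : V ≃ₗ[K] (Fin m → K)) (g : SU m K q) (a : K) (v : V) :
    (su (F := F) φ g) (a • v) = a • (su (F := F) φ g) v := by
  rw [su_apply, su_apply, map_smul, act_smul, map_smul]

theorem su_inj (φ : V ≃ₗ[K] (Fin m → K)) : Function.Injective (su (F := F) (q := q) φ) := by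
  intro g g' hg
  apply ext_act
  intro w
  obtain ⟨v, rfl⟩ := φ.surjective w
  rw [← phi_su (F := F), ← phi_su (F := F), hg]

variable (h : HK Q K q)
include h

theorem su_mem_O {φ : V ≃ₗ[K] (Fin m → K)} (hφ : ∀ v w, h.hm v w = hermForm m K q (φ v) (φ w)) (g : SU m K q) :
    su (F := F) φ g ∈ O Q := by
  intro v
  apply (algebraMap F K).injective
  rw [← h.hm_self, ← h.hm_self, hφ, hφ, phi_su, herm_act]

theorem su_mem_E (hG : Good Q) {φ : V ≃ₗ[K] (Fin m → K)} (hφ : ∀ v w, h.hm v w = hermForm m K q (φ v) (φ w))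
    (hperf : commutator (SU m K q) = ⊤) (g : SU m K q) : su (F := F) φ g ∈ E Q := by
  rw [← hG.commutator_eq_E]
  have h1 : g ∈ commutator (SU m K q) := by rw [hperf]; trivial
  have h2 : su (F := F) φ g ∈ (commutator (SU m K q)).map (su φ) := ⟨g, h1, rfl⟩
  rw [commutator_def, Subgroup.map_commutator] at h2
  have h3 : (⊤ : Subgroup (SU m K q)).map (su (F := F) φ) ≤ O Q := by
    rintro _ ⟨g, -, rfl⟩
    exact h.su_mem_O hφ g
  exact Subgroup.commutator_mono h3 h3 h2

/-- multiplier of a `K`-linear semisimilitude -/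
theorem hm_map {M : Equiv.Perm V} {c : F} (hM : IsSS Q (RingEquiv.refl F) c M)
    (hlin : ∀ (a : K) v, M (a • v) = a • M v) (u v : V) : h.hm (M u) (M v) = algebraMap F K c * h.hm u v := by
  rw [hm_def, hm_def, ← hlin, hM.polar, hM.polar, RingEquiv.refl_apply, RingEquiv.refl_apply, map_mul, map_mul]
  ring

/-- conjugation by a `K`-linear similitude -/
theorem exists_conj [FiniteDimensional K V] {φ : V ≃ₗ[K] (Fin m → K)}
    (hφ : ∀ v w, h.hm v w = hermForm m K q (φ v) (φ w))
    {M : Equiv.Perm V} {c : F} (hM : IsSS Q (RingEquiv.refl F) c M)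
    (hlin : ∀ (a : K) v, M (a • v) = a • M v) (s : SU m K q) :
    ∃ s' : SU m K q, ∀ v, M ((su (F := F) φ s) v) = (su (F := F) φ s') (M v) := by
  let M' : V ≃ₗ[K] V := { M with map_add' := hM.add, map_smul' := hlin }
  let L : (Fin m → K) ≃ₗ[K] (Fin m → K) := (φ.symm.trans M').trans φ
  have hL : ∀ v, L (φ v) = φ (M v) := by
    intro v
    change φ (M (φ.symm (φ v))) = _
    rw [LinearEquiv.symm_apply_apply]
  have hLf : ∀ u v, hermForm m K q (L u) (L v) = algebraMap F K c * hermForm m K q u v := by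
    intro u v
    obtain ⟨u, rfl⟩ := φ.surjective u
    obtain ⟨v, rfl⟩ := φ.surjective v
    rw [hL, hL, ← hφ, ← hφ, h.hm_map hM hlin]
  have hc : algebraMap F K c ≠ 0 := (map_ne_zero _).2 hM.ne
  let A : (Fin m → K) →ₗ[K] (Fin m → K) := Matrix.toLin' (mat s)
  let A' : (Fin m → K) →ₗ[K] (Fin m → K) := (L : _ →ₗ[K] _) ∘ₗ A ∘ₗ (L.symm : _ →ₗ[K] _)
  have hA' : ∀ v, A' v = L (act s (L.symm v)) := fun v => rfl
  have hdet : (LinearMap.toMatrix' A').det = 1 := by
    rw [LinearMap.det_toMatrix', LinearMap.det_conj, LinearMap.det_toLin', det_mat]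
  refine ⟨mkSU (LinearMap.toMatrix' A') hdet ?_, ?_⟩
  · intro u v
    have h1 : ∀ u, (LinearMap.toMatrix' A').mulVec u = L (act s (L.symm u)) := by
      intro u
      rw [LinearMap.toMatrix'_mulVec, hA']
    apply mul_left_cancel₀ hc
    rw [h1, h1, hLf, herm_act, ← hLf, LinearEquiv.apply_symm_apply, LinearEquiv.apply_symm_apply]
  · intro v
    apply φ.injective
    rw [phi_su, ← hL, phi_su]
    change _ = (LinearMap.toMatrix' A').mulVec (φ (M v))
    rw [LinearMap.toMatrix'_mulVec, hA', ← hL, LinearEquiv.symm_apply_apply]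

end HK

end Cfsg.Agent.H338.RC
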